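import Mathlib

/-!
# S1904, piece I (step 5): in the tower situation `X' ≤ V` forces `X` abelian
-/

set_option autoImplicit false

namespace Cfsg.Agent.X64

universe u v

/-- In a group whose commutators lie in a central subgroup `V` of exponent 2 and whose centre has
index at most 4, any two nontrivial commutators coincide. -/
theorem x64_ab_key {X : Type u} [Group X] [Finite X] (V : Subgroup X)
    (hVc : ∀ v ∈ V, ∀ x : X, v * x = x * v) (hV2 : ∀ v ∈ V, v * v = 1)
    (hcomm : ∀ x y : X, x * y * x⁻¹ * y⁻¹ ∈ V)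
    (hidx : (Subgroup.center X).index ≤ 4)
    (x y x' y' : X) (hxy : x * y * x⁻¹ * y⁻¹ ≠ 1) (hxy' : x' * y' * x'⁻¹ * y'⁻¹ ≠ 1) :
    x * y * x⁻¹ * y⁻¹ = x' * y' * x'⁻¹ * y'⁻¹ := by
  -- bimultiplicativity in the second variable
  have hbil : ∀ a b c : X, a * (b * c) * a⁻¹ * (b * c)⁻¹ =
      (a * b * a⁻¹ * b⁻¹) * (a * c * a⁻¹ * c⁻¹) := by
    intro a b c
    have hk := hcomm a c
    calc a * (b * c) * a⁻¹ * (b * c)⁻¹
        = a * b * a⁻¹ * ((a * c * a⁻¹ * c⁻¹) * b⁻¹) := by group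
      _ = a * b * a⁻¹ * (b⁻¹ * (a * c * a⁻¹ * c⁻¹)) := by rw [hVc _ hk b⁻¹]
      _ = (a * b * a⁻¹ * b⁻¹) * (a * c * a⁻¹ * c⁻¹) := by group
  -- symmetry
  have hsymm : ∀ a b : X, a * b * a⁻¹ * b⁻¹ = b * a * b⁻¹ * a⁻¹ := by
    intro a b
    have h1 : (a * b * a⁻¹ * b⁻¹)⁻¹ = b * a * b⁻¹ * a⁻¹ := by group
    have h2 : (a * b * a⁻¹ * b⁻¹)⁻¹ = a * b * a⁻¹ * b⁻¹ :=
      inv_eq_of_mul_eq_one_left (hV2 _ (hcomm a b))
    rw [← h1, h2]
  have hone : ∀ a b : X, b * a = a * b → a * b * a⁻¹ * b⁻¹ = 1 := by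
    intro a b h
    rw [← h]; group
  have hne : ∀ a b : X, a * b * a⁻¹ * b⁻¹ ≠ 1 → b * a ≠ a * b := fun a b h h' => h (hone a b h')
  -- the centralizer of a non-central element has index 2
  have hidx2 : ∀ a b : X, a * b * a⁻¹ * b⁻¹ ≠ 1 →
      (Subgroup.centralizer ({a} : Set X)).index = 2 := by
    intro a b hab
    have hle : Subgroup.center X ≤ Subgroup.centralizer ({a} : Set X) :=
      Subgroup.center_le_centralizer _
    have hmul := Subgroup.relIndex_mul_index hle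
    have haC : a ∈ Subgroup.centralizer ({a} : Set X) := by
      rw [Subgroup.mem_centralizer_singleton_iff]
    have haZ : a ∉ Subgroup.center X := by
      intro h
      exact hne a b hab (Subgroup.mem_center_iff.mp h b)
    have h1 : (Subgroup.center X).relIndex (Subgroup.centralizer ({a} : Set X)) ≠ 1 := by
      intro h
      exact haZ (Subgroup.relIndex_eq_one.mp h haC)
    have h0 : (Subgroup.center X).index ≠ 0 := Subgroup.index_ne_zero_of_finite
    have h2 : (Subgroup.centralizer ({a} : Set X)).index ≠ 1 := by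
      intro h
      have htop := Subgroup.index_eq_one.mp h
      have hb : b ∈ Subgroup.centralizer ({a} : Set X) := by rw [htop]; trivial
      rw [Subgroup.mem_centralizer_singleton_iff] at hb
      exact hne a b hab hb
    have h3 : (Subgroup.center X).relIndex (Subgroup.centralizer ({a} : Set X)) ≠ 0 := by
      intro h; rw [h, zero_mul] at hmul; exact h0 hmul.symm
    have h4 : (Subgroup.centralizer ({a} : Set X)).index ≠ 0 := by
      intro h; rw [h, mul_zero] at hmul; exact h0 hmul.symm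
    have h5 : 2 ≤ (Subgroup.center X).relIndex (Subgroup.centralizer ({a} : Set X)) := by omega
    have h6 : 2 ≤ (Subgroup.centralizer ({a} : Set X)).index := by omega
    nlinarith
  -- the commutator with `a` is constant off the centralizer
  have hkey : ∀ a b b' : X, a * b * a⁻¹ * b⁻¹ ≠ 1 → a * b' * a⁻¹ * b'⁻¹ ≠ 1 →
      a * b * a⁻¹ * b⁻¹ = a * b' * a⁻¹ * b'⁻¹ := by
    intro a b b' hab hab'
    have h2 := hidx2 a b hab
    have hb : b⁻¹ ∉ Subgroup.centralizer ({a} : Set X) := by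
      rw [Subgroup.inv_mem_iff, Subgroup.mem_centralizer_singleton_iff]
      exact hne a b hab
    have hb' : b' ∉ Subgroup.centralizer ({a} : Set X) := by
      rw [Subgroup.mem_centralizer_singleton_iff]
      exact hne a b' hab'
    have hmem : b⁻¹ * b' ∈ Subgroup.centralizer ({a} : Set X) :=
      (Subgroup.mul_mem_iff_of_index_two h2).2 ⟨fun h => absurd h hb, fun h => absurd h hb'⟩
    rw [Subgroup.mem_centralizer_singleton_iff] at hmem
    have h1 : b' = b * (b⁻¹ * b') := by group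
    rw [h1, hbil, hone a (b⁻¹ * b') hmem, mul_one]
  -- the four elements
  by_cases hxx' : x * x' * x⁻¹ * x'⁻¹ = 1
  · -- find `w` not commuting with `x` nor with `x'`
    obtain ⟨w, hw, hw'⟩ : ∃ w : X, x * w * x⁻¹ * w⁻¹ ≠ 1 ∧ x' * w * x'⁻¹ * w⁻¹ ≠ 1 := by
      by_cases h1 : x' * y * x'⁻¹ * y⁻¹ = 1
      · by_cases h2 : x * y' * x⁻¹ * y'⁻¹ = 1
        · refine ⟨y * y', ?_, ?_⟩
          · rw [hbil, h2, mul_one]; exact hxy
          · rw [hbil, h1, one_mul]; exact hxy'
        · exact ⟨y', h2, hxy'⟩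
      · exact ⟨y, hxy, h1⟩
    calc x * y * x⁻¹ * y⁻¹ = x * w * x⁻¹ * w⁻¹ := hkey x y w hxy hw
      _ = w * x * w⁻¹ * x⁻¹ := hsymm x w
      _ = w * x' * w⁻¹ * x'⁻¹ := hkey w x x' (by rw [← hsymm]; exact hw) (by rw [← hsymm]; exact hw')
      _ = x' * w * x'⁻¹ * w⁻¹ := hsymm w x'
      _ = x' * y' * x'⁻¹ * y'⁻¹ := hkey x' w y' hw' hxy'
  · calc x * y * x⁻¹ * y⁻¹ = x * x' * x⁻¹ * x'⁻¹ := hkey x y x' hxy hxx'
      _ = x' * x * x'⁻¹ * x⁻¹ := hsymm x x'
      _ = x' * y' * x'⁻¹ * y'⁻¹ := hkey x' x y' (by rw [← hsymm]; exact hxx') hxy'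

/-- **step 5**: in the tower situation `X ⧸ V` is not abelian (unless `X` is abelian). -/
theorem x64_ab {X : Type u} [Group X] [Finite X] (hX : IsPGroup 2 X)
    {G : Type v} [Group G] [Finite G] (hG : Odd (Nat.card G)) (ρ : G →* MulAut X)
    (V : Subgroup X) (hVdef : ∀ z : X, z ∈ V ↔ z ∈ Subgroup.center X ∧ z * z = 1)
    (hV4 : Nat.card V = 4)
    (hirr : ∀ v ∈ V, (∀ a : G, ρ a v = v) → v = 1)
    (U : Subgroup X) (hUdef : ∀ u : X, u ∈ U ↔ u * u ∈ V ∧ ∀ x : X, u * x * u⁻¹ * x⁻¹ ∈ V)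
    (hU16 : Nat.card U = 16)
    (hcomm : ∀ x y : X, x * y * x⁻¹ * y⁻¹ ∈ V) : ∀ x y : X, x * y = y * x := by
  classical
  have hVc : ∀ v ∈ V, ∀ x : X, v * x = x * v := fun v hv x =>
    (Subgroup.mem_center_iff.mp ((hVdef v).1 hv).1 x).symm
  have hV2 : ∀ v ∈ V, v * v = 1 := fun v hv => ((hVdef v).1 hv).2
  haveI hVn : V.Normal := ⟨fun v hv g => by
    have : g * v * g⁻¹ = v := by rw [← hVc v hv g]; group
    rw [this]; exact hv⟩
  have hVcen : V ≤ Subgroup.center X := fun v hv => ((hVdef v).1 hv).1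
  -- squares are central
  have hsqc : ∀ x : X, x * x ∈ Subgroup.center X := by
    intro x
    rw [Subgroup.mem_center_iff]
    intro y
    have hk := hcomm x y
    obtain ⟨k, hkdef⟩ : ∃ k : X, k = x * y * x⁻¹ * y⁻¹ := ⟨_, rfl⟩
    rw [← hkdef] at hk
    have hkk : k * k = 1 := hV2 k hk
    have hxy : x * y = k * (y * x) := by rw [hkdef]; group
    symm
    calc x * x * y = x * (x * y) := by group
      _ = x * (k * (y * x)) := by rw [hxy]
      _ = (x * k) * (y * x) := by group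
      _ = (k * x) * (y * x) := by rw [hVc k hk x]
      _ = k * (x * y) * x := by group
      _ = k * (k * (y * x)) * x := by rw [hxy]
      _ = (k * k) * (y * (x * x)) := by group
      _ = y * (x * x) := by rw [hkk, one_mul]
  -- the squaring homomorphism `X → X ⧸ V`
  let φ : X →* X ⧸ V := MonoidHom.mk' (fun x => (QuotientGroup.mk (x * x) : X ⧸ V))
    (fun x y => by
      rw [← QuotientGroup.mk_mul, QuotientGroup.eq]
      have h1 : (x * y * (x * y))⁻¹ * (x * x * (y * y)) =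
          y⁻¹ * (x⁻¹ * y⁻¹ * x⁻¹⁻¹ * y⁻¹⁻¹) * y⁻¹⁻¹ := by group
      rw [h1]
      exact hVn.conj_mem _ (hcomm x⁻¹ y⁻¹) y⁻¹)
  have hφ : ∀ x : X, φ x = (QuotientGroup.mk (x * x) : X ⧸ V) := fun _ => rfl
  have hker : φ.ker = U := by
    ext x
    rw [MonoidHom.mem_ker, hφ, QuotientGroup.eq_one_iff, hUdef]
    exact ⟨fun h => ⟨h, hcomm x⟩, fun h => h.1⟩
  have hrange : φ.range ≤ (Subgroup.center X).map (QuotientGroup.mk' V) := by
    rintro _ ⟨x, rfl⟩
    exact ⟨x * x, hsqc x, rfl⟩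
  -- index computations
  have hidx : (Subgroup.center X).index ≤ 4 := by
    have e1 : Nat.card φ.ker * φ.ker.index = Nat.card X := Subgroup.card_mul_index _
    rw [Subgroup.index_ker, hker, hU16] at e1
    have e2 : Nat.card X = Nat.card (X ⧸ V) * Nat.card V :=
      Subgroup.card_eq_card_quotient_mul_card_subgroup V
    rw [hV4] at e2
    have e3 : Nat.card φ.range * φ.range.index = Nat.card (X ⧸ V) := Subgroup.card_mul_index _
    have hr0 : 0 < Nat.card φ.range := Nat.card_pos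
    have e4 : φ.range.index = 4 := by
      have : Nat.card φ.range * (φ.range.index * 4) = Nat.card φ.range * 16 := by
        rw [← mul_assoc, e3, ← e2, mul_comm]; exact e1.symm
      have := Nat.eq_of_mul_eq_mul_left hr0 this
      omega
    have e5 : ((Subgroup.center X).map (QuotientGroup.mk' V)).index ∣ φ.range.index :=
      Subgroup.index_dvd_of_le hrange
    have e6 : ((Subgroup.center X).map (QuotientGroup.mk' V)).index = (Subgroup.center X).index :=
      Subgroup.index_map_eq (Subgroup.center X) (QuotientGroup.mk'_surjective V) (by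
        rw [QuotientGroup.ker_mk']; exact hVcen)
    rw [e6, e4] at e5
    exact Nat.le_of_dvd (by norm_num) e5
  -- conclusion
  by_contra hab
  push Not at hab
  obtain ⟨x, y, hxy⟩ := hab
  have ht1 : x * y * x⁻¹ * y⁻¹ ≠ 1 := by
    intro h
    apply hxy
    calc x * y = (x * y * x⁻¹ * y⁻¹) * (y * x) := by group
      _ = y * x := by rw [h, one_mul]
  apply ht1
  apply hirr _ (hcomm x y)
  intro a
  have h1 : ρ a (x * y * x⁻¹ * y⁻¹) = ρ a x * ρ a y * (ρ a x)⁻¹ * (ρ a y)⁻¹ := by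
    rw [map_mul, map_mul, map_mul, map_inv, map_inv]
  have h2 : ρ a x * ρ a y * (ρ a x)⁻¹ * (ρ a y)⁻¹ ≠ 1 := by
    rw [← h1]
    intro h
    exact ht1 ((ρ a).injective (h.trans (map_one (ρ a)).symm))
  rw [h1]
  exact (x64_ab_key V hVc hV2 hcomm hidx x y (ρ a x) (ρ a y) ht1 h2).symm

end Cfsg.Agent.X64
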