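import Mathlib

/-!
# S1904: the action induced on a quotient (`x64_quotAct`)
-/

namespace Cfsg.Agent.X64

universe u v

/-- a `G`-invariant subgroup is mapped onto itself by every `ρ a`. -/
theorem x64_quot_map_eq {X : Type u} [Group X] {G : Type v} [Group G] (ρ : G →* MulAut X)
    (N : Subgroup X) (hinv : ∀ a : G, ∀ n ∈ N, ρ a n ∈ N) (a : G) :
    N.map ((ρ a : X ≃* X) : X →* X) = N := by
  apply le_antisymm
  · rintro _ ⟨n, hn, rfl⟩
    exact hinv a n hn
  · intro n hn
    refine ⟨ρ a⁻¹ n, hinv a⁻¹ n hn, ?_⟩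
    show ρ a (ρ a⁻¹ n) = n
    rw [map_inv ρ a]
    exact MulAut.apply_inv_self X (ρ a) n

/-- the action induced on the quotient by a G-invariant normal subgroup -/
noncomputable def x64_quotAct {X : Type u} [Group X] {G : Type v} [Group G] (ρ : G →* MulAut X)
    (N : Subgroup X) [N.Normal] (hinv : ∀ a : G, ∀ n ∈ N, ρ a n ∈ N) : G →* MulAut (X ⧸ N) where
  toFun a := QuotientGroup.congr N N (ρ a) (x64_quot_map_eq ρ N hinv a)
  map_one' := by
    apply MulEquiv.ext
    intro q
    induction q using QuotientGroup.induction_on with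
    | H x => simp [QuotientGroup.congr_mk]
  map_mul' a b := by
    apply MulEquiv.ext
    intro q
    induction q using QuotientGroup.induction_on with
    | H x => simp [QuotientGroup.congr_mk, MulAut.mul_apply]

theorem x64_quotAct_mk {X : Type u} [Group X] {G : Type v} [Group G] (ρ : G →* MulAut X)
    (N : Subgroup X) [N.Normal] (hinv : ∀ a : G, ∀ n ∈ N, ρ a n ∈ N) (a : G) (x : X) :
    x64_quotAct ρ N hinv a (QuotientGroup.mk x) = QuotientGroup.mk (ρ a x) := by
  show QuotientGroup.congr N N (ρ a) (x64_quot_map_eq ρ N hinv a) (QuotientGroup.mk x) = _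
  rw [QuotientGroup.congr_mk]

theorem x64_quot_gen {X : Type u} [Group X] {G : Type v} [Group G] (ρ : G →* MulAut X)
    (hgen : Subgroup.closure {g : X | ∃ a : G, ∃ x : X, g = x⁻¹ * ρ a x} = ⊤)
    (N : Subgroup X) [N.Normal] (hinv : ∀ a : G, ∀ n ∈ N, ρ a n ∈ N) :
    Subgroup.closure {g : X ⧸ N | ∃ a : G, ∃ x : X ⧸ N, g = x⁻¹ * x64_quotAct ρ N hinv a x} = ⊤ := by
  rw [eq_top_iff]
  intro q _
  induction q using QuotientGroup.induction_on with
  | H x =>
    have hx : x ∈ Subgroup.closure {g : X | ∃ a : G, ∃ x : X, g = x⁻¹ * ρ a x} := by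
      rw [hgen]; exact Subgroup.mem_top x
    have hmap : (Subgroup.closure {g : X | ∃ a : G, ∃ x : X, g = x⁻¹ * ρ a x}).map
        (QuotientGroup.mk' N) ≤
        Subgroup.closure {g : X ⧸ N | ∃ a : G, ∃ x : X ⧸ N,
          g = x⁻¹ * x64_quotAct ρ N hinv a x} := by
      rw [MonoidHom.map_closure]
      apply Subgroup.closure_mono
      rintro _ ⟨g, ⟨a, y, rfl⟩, rfl⟩
      refine ⟨a, QuotientGroup.mk y, ?_⟩
      rw [x64_quotAct_mk]
      simp
    exact hmap ⟨x, hx, rfl⟩

theorem x64_quot_card_lt {X : Type u} [Group X] [Finite X] (N : Subgroup X) [N.Normal]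
    (hN : N ≠ ⊥) : Nat.card (X ⧸ N) < Nat.card X := by
  have h1 : Nat.card X = Nat.card (X ⧸ N) * Nat.card N := Subgroup.card_eq_card_quotient_mul_card_subgroup N
  have h2 : 1 < Nat.card N := by
    rcases Nat.lt_or_ge 1 (Nat.card N) with h | h
    · exact h
    · exfalso
      apply hN
      have hpos : 0 < Nat.card N := Nat.card_pos
      have : Nat.card N = 1 := by omega
      exact Subgroup.card_eq_one.mp this
  have h3 : 0 < Nat.card (X ⧸ N) := Nat.card_pos
  rw [h1]
  nlinarith

/-- membership of a coset in the centre of the quotient -/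
theorem x64_mk_mem_center {X : Type u} [Group X] (N : Subgroup X) [N.Normal] (u : X) :
    (QuotientGroup.mk u : X ⧸ N) ∈ Subgroup.center (X ⧸ N) ↔ ∀ x : X, u * x * u⁻¹ * x⁻¹ ∈ N := by
  rw [Subgroup.mem_center_iff]
  constructor
  · intro h x
    have hx := h (QuotientGroup.mk x)
    rw [← QuotientGroup.eq_one_iff]
    have : ((u * x * u⁻¹ * x⁻¹ : X) : X ⧸ N)
        = (QuotientGroup.mk u : X ⧸ N) * QuotientGroup.mk x * (QuotientGroup.mk u)⁻¹
          * (QuotientGroup.mk x)⁻¹ := by
      simp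
    rw [this, ← hx]
    group
  · intro h q
    induction q using QuotientGroup.induction_on with
    | H x =>
      have hx := (QuotientGroup.eq_one_iff (N := N) _).mpr (h x)
      have : ((u * x * u⁻¹ * x⁻¹ : X) : X ⧸ N)
          = (QuotientGroup.mk u : X ⧸ N) * QuotientGroup.mk x * (QuotientGroup.mk u)⁻¹
            * (QuotientGroup.mk x)⁻¹ := by
        simp
      rw [this] at hx
      calc (QuotientGroup.mk x : X ⧸ N) * QuotientGroup.mk u
          = ((QuotientGroup.mk u : X ⧸ N) * QuotientGroup.mk x * (QuotientGroup.mk u)⁻¹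
            * (QuotientGroup.mk x)⁻¹)⁻¹ * (QuotientGroup.mk u * QuotientGroup.mk x) := by group
        _ = QuotientGroup.mk u * QuotientGroup.mk x := by rw [hx, inv_one, one_mul]

end Cfsg.Agent.X64
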