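import Mathlib

/-!
# S1904, piece B: general lemmas on a group of odd order acting on a 2-group

`G` acts on `X` through `ρ : G →* MulAut X`; `hgen` says that the elements `x⁻¹ * ρ a x` generate `X`.
-/

set_option autoImplicit false

namespace Cfsg.Agent.X64

universe u v w

/-- `B` normal in `X` and fixed pointwise by the action: `B` is central (the elements `x⁻¹ * ρ a x`
centralize `B` and generate `X`). -/
theorem x64_central {X : Type u} [Group X]
    {G : Type v} [Group G] (ρ : G →* MulAut X)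
    (hgen : Subgroup.closure {g : X | ∃ a : G, ∃ x : X, g = x⁻¹ * ρ a x} = ⊤)
    (B : Subgroup X) [B.Normal] (hfix : ∀ a : G, ∀ b ∈ B, ρ a b = b) :
    B ≤ Subgroup.center X := by
  intro b hb
  have hle : Subgroup.closure {g : X | ∃ a : G, ∃ x : X, g = x⁻¹ * ρ a x} ≤
      Subgroup.centralizer ({b} : Set X) := by
    rw [Subgroup.closure_le]
    rintro g ⟨a, x, rfl⟩
    rw [SetLike.mem_coe, Subgroup.mem_centralizer_iff]
    intro c hc
    rw [Set.mem_singleton_iff] at hc
    subst hc
    have h1 : x * c * x⁻¹ ∈ B := ‹B.Normal›.conj_mem c hb x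
    have h2 := hfix a _ h1
    rw [map_mul, map_mul, map_inv, hfix a c hb] at h2
    -- h2 : ρ a x * c * (ρ a x)⁻¹ = x * c * x⁻¹
    have h3 : c * (x⁻¹ * ρ a x) = x⁻¹ * (x * c * x⁻¹) * ρ a x := by group
    rw [h3, ← h2]
    group
  rw [hgen] at hle
  rw [Subgroup.mem_center_iff]
  intro g
  have h := hle (Subgroup.mem_top g)
  rw [Subgroup.mem_centralizer_iff] at h
  exact (h b rfl).symm

/-- the norm map of the action, with values in a commutative group, is trivial when the elements
`x⁻¹ * ρ a x` generate `X`. -/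
theorem x64_norm_aux {X : Type u} [Group X] {Q : Type w} [CommGroup Q] (π : X →* Q)
    {G : Type v} [Group G] [Fintype G] (ρ : G →* MulAut X)
    (hgen : Subgroup.closure {g : X | ∃ a : G, ∃ x : X, g = x⁻¹ * ρ a x} = ⊤) (x : X) :
    ∏ a : G, π (ρ a x) = 1 := by
  let T : X →* Q :=
    { toFun := fun w => ∏ a : G, π (ρ a w)
      map_one' := by simp
      map_mul' := by
        intro w w'
        simp only [map_mul]
        exact Finset.prod_mul_distrib }
  have hT : ∀ w, T w = ∏ a : G, π (ρ a w) := fun _ => rfl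
  have hle : Subgroup.closure {g : X | ∃ a : G, ∃ x : X, g = x⁻¹ * ρ a x} ≤ T.ker := by
    rw [Subgroup.closure_le]
    rintro g ⟨b, y, rfl⟩
    rw [SetLike.mem_coe, MonoidHom.mem_ker, map_mul, map_inv, inv_mul_eq_one, hT, hT]
    have h := Fintype.prod_equiv (Equiv.mulRight b) (fun a => π (ρ (a * b) y))
      (fun a => π (ρ a y)) (fun a => rfl)
    rw [← h]
    apply Finset.prod_congr rfl
    intro a _
    rw [map_mul]
    rfl
  rw [hgen] at hle
  have := hle (Subgroup.mem_top x)
  rw [MonoidHom.mem_ker, hT] at this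
  exact this

theorem x64_norm {X : Type u} [Group X] [Finite X] (hX : IsPGroup 2 X)
    {G : Type v} [Group G] [Finite G] (hG : Odd (Nat.card G)) (ρ : G →* MulAut X)
    (hgen : Subgroup.closure {g : X | ∃ a : G, ∃ x : X, g = x⁻¹ * ρ a x} = ⊤)
    (N : Subgroup X) [N.Normal] (hNinv : ∀ a : G, ∀ n ∈ N, ρ a n ∈ N)
    (hab : ∀ x y : X, x * y * x⁻¹ * y⁻¹ ∈ N)
    (x : X) (hx : ∀ a : G, x⁻¹ * ρ a x ∈ N) : x ∈ N := by
  classical
  have : Fintype G := Fintype.ofFinite G
  have hcomm : ∀ a b : X ⧸ N, a * b = b * a := by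
    intro a b
    induction a using QuotientGroup.induction_on with
    | H a =>
      induction b using QuotientGroup.induction_on with
      | H b =>
        rw [← QuotientGroup.mk_mul, ← QuotientGroup.mk_mul, QuotientGroup.eq]
        have h := hab b⁻¹ a⁻¹
        have e : (a * b)⁻¹ * (b * a) = b⁻¹ * a⁻¹ * b⁻¹⁻¹ * a⁻¹⁻¹ := by group
        rw [e]
        exact h
  let _ : CommGroup (X ⧸ N) := { (QuotientGroup.Quotient.group N) with mul_comm := hcomm }
  let π : X →* X ⧸ N :=
    { toFun := fun w => (QuotientGroup.mk w : X ⧸ N)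
      map_one' := rfl
      map_mul' := fun _ _ => rfl }
  have hπ : ∀ w, π w = (QuotientGroup.mk w : X ⧸ N) := fun _ => rfl
  have key := x64_norm_aux π ρ hgen x
  have hconst : ∀ a : G, π (ρ a x) = π x := by
    intro a
    rw [hπ, hπ]
    exact (QuotientGroup.eq.2 (hx a)).symm
  rw [Finset.prod_congr rfl (fun a _ => hconst a), Finset.prod_const, Finset.card_univ] at key
  -- key : π x ^ Fintype.card G = 1
  obtain ⟨k, hk⟩ := hX x
  have hk' : π x ^ (2 ^ k) = 1 := by
    rw [← map_pow, hk, map_one]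
  have hodd : Odd (Fintype.card G) := by
    rw [← Nat.card_eq_fintype_card]
    exact hG
  have hcop : Nat.Coprime (Fintype.card G) (2 ^ k) := by
    apply Nat.Coprime.pow_right
    exact Nat.coprime_two_right.2 hodd
  have h1 : π x = 1 := by
    have h2 : orderOf (π x) ∣ Fintype.card G := orderOf_dvd_of_pow_eq_one key
    have h3 : orderOf (π x) ∣ 2 ^ k := orderOf_dvd_of_pow_eq_one hk'
    have h4 : orderOf (π x) = 1 := Nat.eq_one_of_dvd_coprimes hcop h2 h3
    exact orderOf_eq_one_iff.1 h4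
  rw [hπ] at h1
  exact (QuotientGroup.eq_one_iff x).1 h1

theorem x64_omega {X : Type u} [Group X] [Finite X] (hX : IsPGroup 2 X)
    {G : Type v} [Group G] [Finite G] (hG : Odd (Nat.card G)) (ρ : G →* MulAut X)
    (B : Subgroup X) (hBab : ∀ b ∈ B, ∀ c ∈ B, b * c = c * b)
    (hBinv : ∀ a : G, ∀ b ∈ B, ρ a b ∈ B)
    (hfix : ∀ a : G, ∀ b ∈ B, b * b = 1 → ρ a b = b) :
    ∀ a : G, ∀ b ∈ B, ρ a b = b := by
  have main : ∀ k : ℕ, ∀ b ∈ B, b ^ (2 ^ k) = 1 → ∀ a : G, ρ a b = b := by
    intro k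
    induction k with
    | zero =>
      intro b _ hb a
      rw [pow_zero, pow_one] at hb
      rw [hb, map_one]
    | succ k ih =>
      intro b hb hbk a
      have hb2 : b * b ∈ B := B.mul_mem hb hb
      have hb2k : (b * b) ^ (2 ^ k) = 1 := by
        rw [← pow_two, ← pow_mul, ← pow_succ']
        exact hbk
      have hfix2 : ∀ a' : G, ρ a' (b * b) = b * b := ih (b * b) hb2 hb2k
      -- t := b⁻¹ * ρ a b
      have hab : ρ a b ∈ B := hBinv a b hb
      have htB : b⁻¹ * ρ a b ∈ B := B.mul_mem (B.inv_mem hb) hab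
      have hcomm : b⁻¹ * ρ a b = ρ a b * b⁻¹ := hBab _ (B.inv_mem hb) _ hab
      have ht2 : (b⁻¹ * ρ a b) * (b⁻¹ * ρ a b) = 1 := by
        have h1 := hfix2 a
        rw [map_mul] at h1
        calc (b⁻¹ * ρ a b) * (b⁻¹ * ρ a b) = b⁻¹ * (ρ a b * b⁻¹) * ρ a b := by group
          _ = b⁻¹ * (b⁻¹ * ρ a b) * ρ a b := by rw [hcomm]
          _ = b⁻¹ * b⁻¹ * (ρ a b * ρ a b) := by group
          _ = b⁻¹ * b⁻¹ * (b * b) := by rw [h1]
          _ = 1 := by group
      have htfix : ∀ a' : G, ρ a' (b⁻¹ * ρ a b) = b⁻¹ * ρ a b := fun a' => hfix a' _ htB ht2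
      have hpow : ∀ n : ℕ, ρ (a ^ n) b = b * (b⁻¹ * ρ a b) ^ n := by
        intro n
        induction n with
        | zero => simp
        | succ n ihn =>
          rw [pow_succ', map_mul, MulAut.mul_apply, ihn, map_mul, map_pow, htfix a, pow_succ',
            ← mul_assoc, mul_inv_cancel_left]
      have h1 := hpow (Nat.card G)
      rw [pow_card_eq_one', map_one, MulAut.one_apply] at h1
      have h2 : (b⁻¹ * ρ a b) ^ (Nat.card G) = 1 := by
        have := h1
        calc (b⁻¹ * ρ a b) ^ (Nat.card G) = b⁻¹ * (b * (b⁻¹ * ρ a b) ^ (Nat.card G)) := by group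
          _ = b⁻¹ * b := by rw [← h1]
          _ = 1 := by group
      have h3 : (b⁻¹ * ρ a b) ^ 2 = 1 := by rw [pow_two]; exact ht2
      have h4 : orderOf (b⁻¹ * ρ a b) ∣ 1 := by
        have hc : Nat.Coprime (Nat.card G) 2 := Nat.coprime_two_right.2 hG
        have := Nat.dvd_gcd (orderOf_dvd_of_pow_eq_one h2) (orderOf_dvd_of_pow_eq_one h3)
        rwa [hc] at this
      have h5 : b⁻¹ * ρ a b = 1 := orderOf_eq_one_iff.1 (Nat.dvd_one.1 h4)
      exact (inv_mul_eq_one.1 h5).symm
  intro a b hb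
  obtain ⟨k, hk⟩ := hX b
  exact main k b hb hk a

/-- a nontrivial normal subgroup of a finite `p`-group meets the centre nontrivially. -/
theorem x64_normal_meets_center {Q : Type*} [Group Q] [Finite Q] {p : ℕ} [hp : Fact p.Prime]
    (hQ : IsPGroup p Q) (M : Subgroup Q) [hM : M.Normal] (hMne : M ≠ ⊥) :
    ∃ b ∈ M, b ≠ 1 ∧ b ∈ Subgroup.center Q := by
  have hQ' : IsPGroup p (ConjAct Q) := hQ
  have hcard : p ∣ Nat.card M := by
    obtain ⟨k, hk⟩ := (hQ.to_subgroup M).exists_card_eq
    have hk0 : k ≠ 0 := by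
      rintro rfl
      rw [pow_zero] at hk
      exact hMne (Subgroup.card_eq_one.1 hk)
    rw [hk]
    exact dvd_pow_self p hk0
  have h1 : (1 : M) ∈ MulAction.fixedPoints (ConjAct Q) M := by
    intro g
    exact smul_one g
  obtain ⟨b, hb, hne⟩ := hQ'.exists_fixed_point_of_prime_dvd_card_of_fixed_point M hcard h1
  refine ⟨(b : Q), b.2, ?_, ?_⟩
  · intro h
    apply hne
    exact (Subtype.ext h).symm
  · rw [Subgroup.mem_center_iff]
    intro g
    have h2 := hb (ConjAct.toConjAct g)
    have h3 := congrArg Subtype.val h2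
    rw [ConjAct.Subgroup.val_conj_smul, ConjAct.smul_def, ConjAct.ofConjAct_toConjAct] at h3
    calc g * b = g * b * g⁻¹ * g := by group
      _ = b * g := by rw [h3]

theorem x64_g5 {X : Type u} [Group X] [Finite X] {p : ℕ} [Fact p.Prime] (hX : IsPGroup p X)
    (K L : Subgroup X) [K.Normal] [L.Normal] (hKL : K < L) :
    ∃ s ∈ L, s ∉ K ∧ s ^ p ∈ K ∧ ∀ x : X, s * x * s⁻¹ * x⁻¹ ∈ K := by
  have hQ : IsPGroup p (X ⧸ K) := hX.to_quotient K
  have hLn : (L.map (QuotientGroup.mk' K)).Normal :=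
    Subgroup.Normal.map ‹L.Normal› _ (QuotientGroup.mk'_surjective K)
  obtain ⟨l, hlL, hlK⟩ := SetLike.exists_of_lt hKL
  have hne : L.map (QuotientGroup.mk' K) ≠ ⊥ := by
    intro h
    have h1 : QuotientGroup.mk' K l ∈ L.map (QuotientGroup.mk' K) := Subgroup.mem_map_of_mem _ hlL
    rw [h, Subgroup.mem_bot] at h1
    exact hlK ((QuotientGroup.eq_one_iff l).1 h1)
  obtain ⟨z, hzL, hz1, hzc⟩ := x64_normal_meets_center hQ (L.map (QuotientGroup.mk' K)) hne
  -- an element of order p among the powers of z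
  have hzo : orderOf z ≠ 1 := fun h => hz1 (orderOf_eq_one_iff.1 h)
  obtain ⟨k, hk⟩ := hQ z
  have hdvd : orderOf z ∣ p ^ k := orderOf_dvd_of_pow_eq_one hk
  obtain ⟨j, _, hj⟩ := (Nat.dvd_prime_pow (Fact.out : p.Prime)).1 hdvd
  have hj0 : j ≠ 0 := by
    rintro rfl
    exact hzo (by rw [hj, pow_zero])
  obtain ⟨i, rfl⟩ := Nat.exists_eq_succ_of_ne_zero hj0
  have hp0 : 0 < p := (Fact.out : p.Prime).pos
  have hp1 : 1 < p := (Fact.out : p.Prime).one_lt
  have hw1 : z ^ (p ^ i) ≠ 1 := by
    intro h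
    have h1 : orderOf z ∣ p ^ i := orderOf_dvd_of_pow_eq_one h
    rw [hj] at h1
    have h2 := Nat.le_of_dvd (pow_pos hp0 i) h1
    have h3 : p ^ i < p ^ (i + 1) := Nat.pow_lt_pow_right hp1 (Nat.lt_succ_self i)
    exact absurd h2 (not_le.2 h3)
  have hwp : (z ^ (p ^ i)) ^ p = 1 := by
    rw [← pow_mul, ← pow_succ, ← hj]
    exact pow_orderOf_eq_one z
  have hwL : z ^ (p ^ i) ∈ L.map (QuotientGroup.mk' K) := Subgroup.pow_mem _ hzL _
  have hwc : z ^ (p ^ i) ∈ Subgroup.center (X ⧸ K) := Subgroup.pow_mem _ hzc _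
  obtain ⟨s, hsL, hs⟩ := Subgroup.mem_map.1 hwL
  refine ⟨s, hsL, ?_, ?_, ?_⟩
  · intro hsK
    apply hw1
    rw [← hs]
    exact (QuotientGroup.eq_one_iff s).2 hsK
  · apply (QuotientGroup.eq_one_iff (s ^ p)).1
    have : ((s ^ p : X) : X ⧸ K) = (QuotientGroup.mk' K s) ^ p := by
      rw [← map_pow]; rfl
    rw [this, hs]
    exact hwp
  · intro x
    apply (QuotientGroup.eq_one_iff _).1
    have h1 : ((s * x * s⁻¹ * x⁻¹ : X) : X ⧸ K) =
        QuotientGroup.mk' K s * QuotientGroup.mk' K x * (QuotientGroup.mk' K s)⁻¹ *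
          (QuotientGroup.mk' K x)⁻¹ := by
      rw [← map_inv, ← map_inv, ← map_mul, ← map_mul, ← map_mul]; rfl
    rw [h1, hs]
    rw [Subgroup.mem_center_iff] at hwc
    have h2 := hwc (QuotientGroup.mk' K x)
    rw [← h2]
    group

/-- an orbit of a group of odd order without fixed points has odd size at least 3. -/
theorem x64_orbit_ncard {G : Type v} [Group G] [Finite G] (hG : Odd (Nat.card G))
    {S : Type u} [MulAction G S] [Finite S]
    (hfix : ∀ s : S, ∃ g : G, g • s ≠ s) (s : S) :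
    3 ≤ (MulAction.orbit G s).ncard := by
  have hdvd : (MulAction.orbit G s).ncard ∣ Nat.card G := by
    rw [← MulAction.index_stabilizer]
    exact Subgroup.index_dvd_card _
  have hodd : Odd (MulAction.orbit G s).ncard := by
    obtain ⟨c, hc⟩ := hdvd
    rw [hc] at hG
    exact (Nat.odd_mul.1 hG).1
  have hne1 : (MulAction.orbit G s).ncard ≠ 1 := by
    intro h
    obtain ⟨t, ht⟩ := Set.ncard_eq_one.1 h
    obtain ⟨g, hg⟩ := hfix s
    have h1 : g • s ∈ MulAction.orbit G s := MulAction.mem_orbit s g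
    have h2 : s ∈ MulAction.orbit G s := MulAction.mem_orbit_self s
    rw [ht, Set.mem_singleton_iff] at h1 h2
    exact hg (h1.trans h2.symm)
  obtain ⟨c, hc⟩ := hodd
  omega

theorem x64_orbit {G : Type v} [Group G] [Finite G] (hG : Odd (Nat.card G))
    {S : Type u} [MulAction G S] [Finite S] (hS : Nat.card S = 3 ∨ Nat.card S = 7)
    (hfix : ∀ s : S, ∃ g : G, g • s ≠ s) (s t : S) : ∃ g : G, g • s = t := by
  by_contra hcon
  have hts : t ∉ MulAction.orbit G s := fun h => hcon h
  have hdisj : Disjoint (MulAction.orbit G s) (MulAction.orbit G t) := by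
    rcases MulAction.orbit.eq_or_disjoint (G := G) s t with h | h
    · exact absurd (h ▸ MulAction.mem_orbit_self t) hts
    · exact h
  have h3s := x64_orbit_ncard hG hfix s
  have h3t := x64_orbit_ncard hG hfix t
  have hU : (MulAction.orbit G s ∪ MulAction.orbit G t).ncard =
      (MulAction.orbit G s).ncard + (MulAction.orbit G t).ncard :=
    Set.ncard_union_eq hdisj (Set.toFinite _) (Set.toFinite _)
  have hle : (MulAction.orbit G s ∪ MulAction.orbit G t).ncard ≤ Nat.card S := by
    rw [← Set.ncard_univ]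
    exact Set.ncard_le_ncard (Set.subset_univ _) (Set.toFinite _)
  rcases hS with hS | hS
  · omega
  · -- a third orbit
    have hex : ∃ w : S, w ∉ MulAction.orbit G s ∪ MulAction.orbit G t := by
      by_contra hall
      push Not at hall
      have huniv : MulAction.orbit G s ∪ MulAction.orbit G t = Set.univ :=
        Set.eq_univ_of_forall hall
      have hodd : ∀ x : S, Odd (MulAction.orbit G x).ncard := by
        intro x
        have hdvd : (MulAction.orbit G x).ncard ∣ Nat.card G := by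
          rw [← MulAction.index_stabilizer]
          exact Subgroup.index_dvd_card _
        obtain ⟨c, hc⟩ := hdvd
        rw [hc] at hG
        exact (Nat.odd_mul.1 hG).1
      rw [huniv, Set.ncard_univ, hS] at hU
      obtain ⟨a, ha⟩ := hodd s
      obtain ⟨b, hb⟩ := hodd t
      omega
    obtain ⟨w, hw⟩ := hex
    rw [Set.mem_union, not_or] at hw
    have h3w := x64_orbit_ncard hG hfix w
    have hdisj2 : Disjoint (MulAction.orbit G s ∪ MulAction.orbit G t) (MulAction.orbit G w) := by
      rw [Set.disjoint_union_left]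
      constructor
      · rcases MulAction.orbit.eq_or_disjoint (G := G) s w with h | h
        · exact absurd (h ▸ MulAction.mem_orbit_self w) hw.1
        · exact h
      · rcases MulAction.orbit.eq_or_disjoint (G := G) t w with h | h
        · exact absurd (h ▸ MulAction.mem_orbit_self w) hw.2
        · exact h
    have hU2 : ((MulAction.orbit G s ∪ MulAction.orbit G t) ∪ MulAction.orbit G w).ncard =
        (MulAction.orbit G s ∪ MulAction.orbit G t).ncard + (MulAction.orbit G w).ncard :=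
      Set.ncard_union_eq hdisj2 (Set.toFinite _) (Set.toFinite _)
    have hle2 : ((MulAction.orbit G s ∪ MulAction.orbit G t) ∪ MulAction.orbit G w).ncard ≤
        Nat.card S := by
      rw [← Set.ncard_univ]
      exact Set.ncard_le_ncard (Set.subset_univ _) (Set.toFinite _)
    omega

end Cfsg.Agent.X64
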