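import Mathlib

/-!
# S1904 helper: a group of odd order acting on a four-group (helper8)
-/

namespace Cfsg.Agent.X64

universe u v

/-- An element of a finite group of odd order cannot swap two distinct points. -/
theorem x64_no_swap {X : Type u} [Group X] {G : Type v} [Group G] [Finite G]
    (hG : Odd (Nat.card G)) (ρ : G →* MulAut X) (a : G) (p q : X)
    (hpq : ρ a p = q) (hqp : ρ a q = p) : p = q := by
  have key : ∀ n : ℕ, ρ (a ^ (2 * n)) p = p ∧ ρ (a ^ (2 * n + 1)) p = q := by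
    intro n
    induction n with
    | zero => simp [hpq]
    | succ n ih =>
      have e1 : a ^ (2 * (n + 1)) = a * a ^ (2 * n + 1) := by
        rw [← pow_succ']; rfl
      have e2 : a ^ (2 * (n + 1) + 1) = a * a ^ (2 * (n + 1)) := by
        rw [← pow_succ']
      have h1 : ρ (a ^ (2 * (n + 1))) p = p := by
        rw [e1, map_mul, MulAut.mul_apply, ih.2, hqp]
      refine ⟨h1, ?_⟩
      rw [e2, map_mul, MulAut.mul_apply, h1, hpq]
  obtain ⟨k, hk⟩ := hG
  have h1 : a ^ (2 * k + 1) = 1 := by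
    rw [← hk]; exact pow_card_eq_one'
  have h2 := (key k).2
  rw [h1, map_one, MulAut.one_apply] at h2
  exact h2

/-- In a subgroup of order at most 4 and exponent 2, two distinct nontrivial elements `p, q` give all
elements as `1, p, q, p * q`. -/
theorem x64_four_cases {X : Type u} [Group X] [Finite X] (V : Subgroup X)
    (hV4 : Nat.card V ≤ 4) (hV2 : ∀ v ∈ V, v * v = 1) (p q : X) (hp : p ∈ V) (hq : q ∈ V)
    (hp1 : p ≠ 1) (hq1 : q ≠ 1) (hpq : p ≠ q) :
    ∀ v ∈ V, v = 1 ∨ v = p ∨ v = q ∨ v = p * q := by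
  classical
  intro v hv
  by_contra hcon
  push Not at hcon
  obtain ⟨h1, h2, h3, h4⟩ := hcon
  have hpq1 : p * q ≠ 1 := by
    intro h
    have : p * q = p * p := by rw [h, hV2 p hp]
    exact hpq (mul_left_cancel this).symm
  have hpqp : p * q ≠ p := by
    intro h
    exact hq1 (mul_left_cancel (a := p) (by rw [h, mul_one]))
  have hpqq : p * q ≠ q := by
    intro h
    exact hp1 (mul_right_cancel (b := q) (by rw [h, one_mul]))
  have hnd : ([1, p, q, p * q, v] : List X).Nodup := by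
    simp only [List.nodup_cons, List.mem_cons, List.not_mem_nil, or_false, not_or,
      List.nodup_nil, and_true, not_false_eq_true]
    refine ⟨⟨?_, ?_, ?_, ?_⟩, ⟨?_, ?_, ?_⟩, ⟨?_, ?_⟩, ?_⟩
    · exact fun h => hp1 h.symm
    · exact fun h => hq1 h.symm
    · exact fun h => hpq1 h.symm
    · exact fun h => h1 h.symm
    · exact hpq
    · exact fun h => hpqp h.symm
    · exact fun h => h2 h.symm
    · exact fun h => hpqq h.symm
    · exact fun h => h3 h.symm
    · exact fun h => h4 h.symm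
  haveI : Fintype X := Fintype.ofFinite X
  have hsub : ([1, p, q, p * q, v] : List X).toFinset ⊆ (V : Set X).toFinset := by
    intro z hz
    simp only [List.toFinset_cons, List.toFinset_nil, insert_empty_eq, Finset.mem_insert,
      Finset.mem_singleton] at hz
    rw [Set.mem_toFinset]
    rcases hz with rfl | rfl | rfl | rfl | rfl
    · exact V.one_mem
    · exact hp
    · exact hq
    · exact V.mul_mem hp hq
    · exact hv
  have hc := Finset.card_le_card hsub
  rw [List.toFinset_card_of_nodup hnd] at hc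
  have hV : Nat.card V = ((V : Set X).toFinset).card := by
    rw [Set.toFinset_card, Nat.card_eq_fintype_card]
    rfl
  simp only [List.length_cons, List.length_nil] at hc
  omega

/-- If an element of odd order fixes a nontrivial element of an invariant four-group, it fixes it pointwise. -/
theorem x64_four_fix {X : Type u} [Group X] [Finite X] {G : Type v} [Group G] [Finite G]
    (hG : Odd (Nat.card G)) (ρ : G →* MulAut X) (V : Subgroup X)
    (hV4 : Nat.card V ≤ 4) (hV2 : ∀ v ∈ V, v * v = 1) (a : G) (hVa : ∀ v ∈ V, ρ a v ∈ V)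
    (v₀ : X) (hv₀ : v₀ ∈ V) (hv₀1 : v₀ ≠ 1) (hfix : ρ a v₀ = v₀) : ∀ w ∈ V, ρ a w = w := by
  intro w hw
  by_cases hw1 : w = 1
  · rw [hw1, map_one]
  by_cases hw0 : w = v₀
  · rw [hw0, hfix]
  have hcases := x64_four_cases V hV4 hV2 v₀ w hv₀ hw hv₀1 hw1 (fun h => hw0 h.symm)
  have hinj := (ρ a).injective
  rcases hcases (ρ a w) (hVa w hw) with h | h | h | h
  · exfalso
    apply hw1
    apply hinj
    rw [h, map_one]
  · exfalso
    apply hw0
    apply hinj
    rw [h, hfix]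
  · exact h
  · exfalso
    have h2 : ρ a (v₀ * w) = w := by
      rw [map_mul, hfix, h, ← mul_assoc, hV2 v₀ hv₀, one_mul]
    have h3 := x64_no_swap hG ρ a w (v₀ * w) h h2
    apply hv₀1
    exact mul_right_cancel (b := w) (by rw [one_mul]; exact h3.symm)

/-- A group of odd order acting on a four-group `V` without a common nontrivial fixed point acts through a
3-cycle `g₀`. -/
theorem x64_four {X : Type u} [Group X] [Finite X] {G : Type v} [Group G] [Finite G]
    (hG : Odd (Nat.card G)) (ρ : G →* MulAut X) (V : Subgroup X)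
    (hV4 : Nat.card V = 4) (hV2 : ∀ v ∈ V, v * v = 1) (hVinv : ∀ a : G, ∀ v ∈ V, ρ a v ∈ V)
    (hirr : ∀ v ∈ V, (∀ a : G, ρ a v = v) → v = 1) :
    ∃ g₀ : G, (∀ v ∈ V, v * ρ g₀ v * ρ g₀ (ρ g₀ v) = 1) ∧
      ∀ a : G, (∀ v ∈ V, ρ a v = v) ∨ (∀ v ∈ V, ρ a v = ρ g₀ v) ∨
        (∀ v ∈ V, ρ a v = ρ g₀ (ρ g₀ v)) := by
  have hV4' : Nat.card V ≤ 4 := hV4.le
  -- a nontrivial element
  have hnt : ∃ v₁ ∈ V, v₁ ≠ 1 := by
    by_contra hcon
    push Not at hcon
    have : V = ⊥ := by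
      rw [Subgroup.eq_bot_iff_forall]; exact hcon
    rw [this, Subgroup.card_bot] at hV4
    omega
  obtain ⟨v₁, hv₁, hv₁1⟩ := hnt
  have hmove : ∃ g₀ : G, ρ g₀ v₁ ≠ v₁ := by
    by_contra hcon
    push Not at hcon
    exact hv₁1 (hirr v₁ hv₁ hcon)
  obtain ⟨g₀, hg₀⟩ := hmove
  set v₂ := ρ g₀ v₁ with hv₂def
  have hv₂ : v₂ ∈ V := hVinv g₀ v₁ hv₁
  have hinj := (ρ g₀).injective
  have hv₂1 : v₂ ≠ 1 := by
    intro h
    apply hv₁1
    apply hinj
    rw [map_one]; exact h
  have h12 : v₁ ≠ v₂ := fun h => hg₀ h.symm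
  have hcases := x64_four_cases V hV4' hV2 v₁ v₂ hv₁ hv₂ hv₁1 hv₂1 h12
  have hcomm : v₂ * v₁ * v₂ = v₁ := by
    have h := hV2 (v₁ * v₂) (V.mul_mem hv₁ hv₂)
    have h' : v₁ * (v₂ * v₁ * v₂) = v₁ * v₁ := by
      rw [hV2 v₁ hv₁, ← h]; group
    exact mul_left_cancel h'
  have h3 : ρ g₀ v₂ = v₁ * v₂ := by
    rcases hcases (ρ g₀ v₂) (hVinv g₀ v₂ hv₂) with h | h | h | h
    · exfalso
      apply hv₂1
      apply hinj
      rw [h, map_one]
    · exfalso
      exact h12 (x64_no_swap hG ρ g₀ v₁ v₂ rfl h)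
    · exfalso
      exact h12 (hinj h).symm
    · exact h
  have h4 : ρ g₀ (v₁ * v₂) = v₁ := by
    rw [map_mul, h3, ← hv₂def, ← mul_assoc, hcomm]
  have hF1 : ∀ v ∈ V, v * ρ g₀ v * ρ g₀ (ρ g₀ v) = 1 := by
    intro v hv
    rcases hcases v hv with h | h | h | h
    · rw [h]; simp
    · rw [h, ← hv₂def, h3]
      exact hV2 _ (V.mul_mem hv₁ hv₂)
    · rw [h, h3, h4]
      have := hV2 (v₂ * v₁) (V.mul_mem hv₂ hv₁)
      rw [← this]; group
    · rw [h, h4, ← hv₂def, mul_assoc]
      exact hV2 _ (V.mul_mem hv₁ hv₂)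
  refine ⟨g₀, hF1, ?_⟩
  intro a
  have hinja := (ρ a).injective
  rcases hcases (ρ a v₁) (hVinv a v₁ hv₁) with h | h | h | h
  · exfalso
    apply hv₁1
    apply hinja
    rw [h, map_one]
  · left
    exact x64_four_fix hG ρ V hV4' hV2 a (hVinv a) v₁ hv₁ hv₁1 h
  · right; left
    have hb : ρ (g₀⁻¹ * a) v₁ = v₁ := by
      rw [map_mul, MulAut.mul_apply, h, hv₂def, ← MulAut.mul_apply, ← map_mul, inv_mul_cancel,
        map_one, MulAut.one_apply]
    have hfixb := x64_four_fix hG ρ V hV4' hV2 (g₀⁻¹ * a) (hVinv _) v₁ hv₁ hv₁1 hb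
    intro v hv
    have e : a = g₀ * (g₀⁻¹ * a) := by group
    conv_lhs => rw [e, map_mul, MulAut.mul_apply, hfixb v hv]
  · right; right
    have hb : ρ ((g₀ * g₀)⁻¹ * a) v₁ = v₁ := by
      have e4 : ρ (g₀ * g₀) v₁ = v₁ * v₂ := by
        rw [map_mul, MulAut.mul_apply, ← hv₂def, h3]
      rw [map_mul, MulAut.mul_apply, h, ← e4, ← MulAut.mul_apply, ← map_mul, inv_mul_cancel,
        map_one, MulAut.one_apply]
    have hfixb := x64_four_fix hG ρ V hV4' hV2 ((g₀ * g₀)⁻¹ * a) (hVinv _) v₁ hv₁ hv₁1 hb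
    intro v hv
    have e : a = (g₀ * g₀) * ((g₀ * g₀)⁻¹ * a) := by group
    conv_lhs => rw [e, map_mul, MulAut.mul_apply, hfixb v hv, map_mul, MulAut.mul_apply]

end Cfsg.Agent.X64
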