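import Mathlib
import Cfsg.Agent.X64.Basic
import Cfsg.Agent.X64.Four

/-!
# S1904, piece I: common facts about `V = Ω₁(Z(X))`, `U/V = Ω₁(Z(X/V))` and the commutator map (helper8)

`V` and `U` are given by their characterisations `hVdef`, `hUdef`.
-/

namespace Cfsg.Agent.X64

universe u v

/-- the commutator `w y w⁻¹ y⁻¹` -/
def x64_c {X : Type u} [Group X] (w y : X) : X := w * y * w⁻¹ * y⁻¹

section

variable {X : Type u} [Group X] {G : Type v} [Group G] (ρ : G →* MulAut X)
  (V : Subgroup X) (hVdef : ∀ z : X, z ∈ V ↔ z ∈ Subgroup.center X ∧ z * z = 1)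
  (U : Subgroup X) (hUdef : ∀ u : X, u ∈ U ↔ u * u ∈ V ∧ ∀ x : X, u * x * u⁻¹ * x⁻¹ ∈ V)

include hVdef in
theorem x64_V_comm {v : X} (hv : v ∈ V) (x : X) : x * v = v * x :=
  Subgroup.mem_center_iff.mp ((hVdef v).mp hv).1 x

include hVdef in
theorem x64_V_sq {v : X} (hv : v ∈ V) : v * v = 1 := ((hVdef v).mp hv).2

include hVdef in
theorem x64_V_inv_eq {v : X} (hv : v ∈ V) : v⁻¹ = v :=
  inv_eq_of_mul_eq_one_left (x64_V_sq V hVdef hv)

include hVdef in
theorem x64_V_le_center : V ≤ Subgroup.center X := fun v hv => ((hVdef v).mp hv).1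

include hVdef in
theorem x64_V_normal : V.Normal := by
  refine ⟨fun v hv g => ?_⟩
  have h := x64_V_comm V hVdef hv g
  rw [h, mul_inv_cancel_right]
  exact hv

include hVdef in
theorem x64_V_inv (a : G) {v : X} (hv : v ∈ V) : ρ a v ∈ V := by
  rw [hVdef]
  constructor
  · rw [Subgroup.mem_center_iff]
    intro g
    have h := x64_V_comm V hVdef hv ((ρ a).symm g)
    have h2 := congrArg (ρ a) h
    rw [map_mul, map_mul, MulEquiv.apply_symm_apply] at h2
    exact h2
  · rw [← map_mul, x64_V_sq V hVdef hv, map_one]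

include hVdef hUdef in
theorem x64_V_le_U : V ≤ U := by
  intro v hv
  rw [hUdef]
  refine ⟨?_, fun x => ?_⟩
  · rw [x64_V_sq V hVdef hv]; exact V.one_mem
  · have h := x64_V_comm V hVdef hv x
    rw [← h, mul_inv_cancel_right, mul_inv_cancel]
    exact V.one_mem

include hUdef in
theorem x64_U_c_mem {w : X} (hw : w ∈ U) (y : X) : x64_c w y ∈ V := ((hUdef w).mp hw).2 y

include hUdef in
theorem x64_U_sq_mem {w : X} (hw : w ∈ U) : w * w ∈ V := ((hUdef w).mp hw).1

include hVdef hUdef in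
theorem x64_U_inv (a : G) {w : X} (hw : w ∈ U) : ρ a w ∈ U := by
  rw [hUdef]
  refine ⟨?_, fun x => ?_⟩
  · rw [← map_mul]
    exact x64_V_inv ρ V hVdef a (x64_U_sq_mem V U hUdef hw)
  · have h := x64_V_inv ρ V hVdef a (x64_U_c_mem V U hUdef hw ((ρ a).symm x))
    unfold x64_c at h
    rw [map_mul, map_mul, map_mul, map_inv, map_inv, MulEquiv.apply_symm_apply] at h
    exact h

include hVdef hUdef in
theorem x64_U_normal : U.Normal := by
  refine ⟨fun w hw g => ?_⟩
  -- g w g⁻¹ = (w g⁻¹ w⁻¹ g)⁻¹ ... : g w g⁻¹ = c(w, g⁻¹)⁻¹ * w  with c ∈ V ≤ U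
  have hc := x64_U_c_mem V U hUdef hw g
  have hcU : x64_c w g ∈ U := x64_V_le_U V hVdef U hUdef hc
  have e : g * w * g⁻¹ = (x64_c w g)⁻¹ * w := by
    unfold x64_c; group
  rw [e]
  exact U.mul_mem (U.inv_mem hcU) hw

/-- `w y = c(w,y) y w` -/
theorem x64_c_spec (w y : X) : w * y = x64_c w y * y * w := by
  unfold x64_c; group

theorem x64_c_eq_one_iff (w y : X) : x64_c w y = 1 ↔ w * y = y * w := by
  unfold x64_c
  constructor
  · intro h
    have : w * y * w⁻¹ * y⁻¹ * (y * w) = 1 * (y * w) := by rw [h]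
    rw [one_mul] at this
    rw [← this]; group
  · intro h
    rw [h]; group

include hVdef hUdef in
theorem x64_c_mul_right {w : X} (hw : w ∈ U) (y z : X) :
    x64_c w (y * z) = x64_c w y * x64_c w z := by
  have hz := x64_V_comm V hVdef (x64_U_c_mem V U hUdef hw z) y
  have e : x64_c w (y * z) = x64_c w y * (y * x64_c w z * y⁻¹) := by
    unfold x64_c; group
  rw [e, hz, mul_inv_cancel_right]

include hVdef hUdef in
theorem x64_c_mul_left {w w' : X} (hw : w ∈ U) (hw' : w' ∈ U) (y : X) :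
    x64_c (w * w') y = x64_c w y * x64_c w' y := by
  have hz := x64_V_comm V hVdef (x64_U_c_mem V U hUdef hw' y) w
  have e : x64_c (w * w') y = (w * x64_c w' y * w⁻¹) * x64_c w y := by
    unfold x64_c; group
  rw [e, hz, mul_inv_cancel_right]
  exact (x64_V_comm V hVdef (x64_U_c_mem V U hUdef hw' y) _).symm

include hVdef in
theorem x64_c_of_mem_V {v : X} (hv : v ∈ V) (y : X) : x64_c v y = 1 := by
  rw [x64_c_eq_one_iff]
  exact (x64_V_comm V hVdef hv y).symm

theorem x64_c_one_right (w : X) : x64_c w 1 = 1 := by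
  unfold x64_c; group

theorem x64_c_one_left (y : X) : x64_c 1 y = 1 := by
  unfold x64_c; group

include hVdef hUdef in
theorem x64_c_inv_right {w : X} (hw : w ∈ U) (y : X) : x64_c w y⁻¹ = x64_c w y := by
  have h := x64_c_mul_right V hVdef U hUdef hw y y⁻¹
  rw [mul_inv_cancel, x64_c_one_right] at h
  have h2 : x64_c w y⁻¹ = (x64_c w y)⁻¹ := eq_inv_of_mul_eq_one_right h.symm
  exact h2.trans (x64_V_inv_eq V hVdef (x64_U_c_mem V U hUdef hw y))

theorem x64_c_map (a : G) (w y : X) : ρ a (x64_c w y) = x64_c (ρ a w) (ρ a y) := by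
  unfold x64_c
  rw [map_mul, map_mul, map_mul, map_inv, map_inv]

end

end Cfsg.Agent.X64
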