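import Mathlib
import Cfsg.Agent.X64.Setup
import Cfsg.Agent.X64.Ab
import Cfsg.Agent.X64.Quot

/-!
# S1904, piece I, branch `D ≤ M` (helper8)

Every `d` with `d² ∈ U`, `[d,X] ≤ U` centralizes `U`: then `X/V` has no normal elementary abelian subgroup
of order 8, the induction hypothesis applies to `X/V`, and a contradiction follows.
-/

namespace Cfsg.Agent.X64

universe u v

set_option maxHeartbeats 800000 in
theorem x64_branchA {X : Type u} [Group X] [Finite X] (hX : IsPGroup 2 X)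
    (hna : ¬ ∀ x y : X, x * y = y * x)
    {G : Type v} [Group G] [Finite G] (hG : Odd (Nat.card G)) (ρ : G →* MulAut X)
    (V : Subgroup X) [hVn : V.Normal]
    (hVdef : ∀ z : X, z ∈ V ↔ z ∈ Subgroup.center X ∧ z * z = 1)
    (hV4 : Nat.card V = 4)
    (hirr : ∀ v ∈ V, (∀ a : G, ρ a v = v) → v = 1)
    (U : Subgroup X) (hUdef : ∀ u : X, u ∈ U ↔ u * u ∈ V ∧ ∀ x : X, u * x * u⁻¹ * x⁻¹ ∈ V)
    (hUinv : ∀ u ∈ U, u * u = 1 → u ∈ V) (hU16 : Nat.card U = 16)
    (hDM : ∀ d : X, d * d ∈ U → (∀ x : X, d * x * d⁻¹ * x⁻¹ ∈ U) → ∀ w ∈ U, w * d = d * w)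
    (IH : (∀ N : Subgroup (X ⧸ V), N.Normal → (∀ n ∈ N, n * n = 1) → Nat.card N ≤ 4) →
      (¬ ∀ x y : X ⧸ V, x * y = y * x) →
      (∀ x : X ⧸ V, x * x ∈ Subgroup.center (X ⧸ V)) ∧
        ∀ z ∈ Subgroup.center (X ⧸ V), z * z = 1) : False := by
  have hVc : ∀ {v : X}, v ∈ V → ∀ y : X, y * v = v * y := fun hv y => x64_V_comm V hVdef hv y
  have hVU : V ≤ U := x64_V_le_U V hVdef U hUdef
  haveI hUn : U.Normal := x64_U_normal V hVdef U hUdef
  have hmk1 : ∀ x : X, (QuotientGroup.mk x : X ⧸ V) = 1 ↔ x ∈ V := fun x =>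
    QuotientGroup.eq_one_iff x
  -- commutator identity: c(d*d, x) = (d c(d,x) d⁻¹) * c(d,x)
  have hid : ∀ d x : X, (d * d) * x * (d * d)⁻¹ * x⁻¹ =
      (d * (d * x * d⁻¹ * x⁻¹) * d⁻¹) * (d * x * d⁻¹ * x⁻¹) := by
    intro d x; group
  -- step 1: X/V is not abelian
  have hnaQ : ¬ ∀ x y : X ⧸ V, x * y = y * x := by
    intro hc
    apply hna
    apply x64_ab hX hG ρ V hVdef hV4 hirr U hUdef hU16
    intro x y
    rw [← hmk1]
    have h := hc (QuotientGroup.mk x) (QuotientGroup.mk y)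
    simp only [QuotientGroup.mk_mul, QuotientGroup.mk_inv]
    rw [h]; group
  -- key: an element d outside U with d*d ∈ V and [d,X] ≤ U does not exist
  have hkey : ∀ d : X, d * d ∈ V → (∀ x : X, d * x * d⁻¹ * x⁻¹ ∈ U) → d ∈ U := by
    intro d hd2 hdX
    have hcen := hDM d (hVU hd2) hdX
    rw [hUdef]
    refine ⟨hd2, fun x => ?_⟩
    have hcU := hdX x
    apply hUinv _ hcU
    -- c * c = c(d*d, x) = 1
    have h1 := hid d x
    have h2 : d * (d * x * d⁻¹ * x⁻¹) * d⁻¹ = d * x * d⁻¹ * x⁻¹ := by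
      rw [← hcen _ hcU, mul_inv_cancel_right]
    rw [h2] at h1
    rw [← h1]
    have h3 := hVc hd2 x
    rw [← h3, mul_inv_cancel_right, mul_inv_cancel]
  -- step 2: (Nbar)
  have hNQ : ∀ N : Subgroup (X ⧸ V), N.Normal → (∀ n ∈ N, n * n = 1) → Nat.card N ≤ 4 := by
    intro Nb hNbn hNb2
    set N : Subgroup X := Nb.comap (QuotientGroup.mk' V) with hNdef
    haveI hNn : N.Normal := hNbn.comap _
    have hNsq : ∀ n ∈ N, n * n ∈ V := by
      intro n hn
      rw [← hmk1]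
      have := hNb2 _ (Subgroup.mem_comap.mp hn)
      simpa using this
    have hNU : N ≤ U := by
      by_contra hcon
      obtain ⟨n, hn, hnU⟩ := SetLike.not_le_iff_exists.mp hcon
      haveI : (N ⊔ U).Normal := Subgroup.sup_normal N U
      have hlt : U < N ⊔ U := by
        refine lt_of_le_of_ne le_sup_right ?_
        intro h
        apply hnU
        rw [h]
        exact Subgroup.mem_sup_left hn
      haveI : Fact (Nat.Prime 2) := ⟨Nat.prime_two⟩
      obtain ⟨s, hsL, hsU, -, hsX⟩ := x64_g5 hX U (N ⊔ U) hlt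
      obtain ⟨n', hn', u', hu', rfl⟩ := Subgroup.mem_sup_of_normal_right.mp hsL
      have hn'U : n' ∉ U := fun h => hsU (U.mul_mem h hu')
      apply hn'U
      apply hkey n' (hNsq n' hn')
      intro x
      have hc : u' * x * u'⁻¹ * x⁻¹ ∈ U := hVU (x64_U_c_mem V U hUdef hu' x)
      have e : n' * x * n'⁻¹ * x⁻¹ =
          (n' * (u' * x * u'⁻¹ * x⁻¹) * n'⁻¹)⁻¹ * ((n' * u') * x * (n' * u')⁻¹ * x⁻¹) := by
        group
      rw [e]
      exact U.mul_mem (U.inv_mem (hUn.conj_mem _ hc n')) (hsX x)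
    -- cardinalities
    have hsurj : Function.Surjective (QuotientGroup.mk' V) := QuotientGroup.mk'_surjective V
    have hidx : N.index = Nb.index := Subgroup.index_comap_of_surjective Nb hsurj
    have h1 : Nat.card N * N.index = Nat.card X := Subgroup.card_mul_index N
    have h2 : Nat.card Nb * Nb.index = Nat.card (X ⧸ V) := Subgroup.card_mul_index Nb
    have h3 : Nat.card X = Nat.card (X ⧸ V) * Nat.card V :=
      Subgroup.card_eq_card_quotient_mul_card_subgroup V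
    have h4 : Nat.card N ≤ 16 := hU16 ▸ Subgroup.card_le_of_le hNU
    have hpos : 0 < Nb.index := Nat.pos_of_ne_zero Subgroup.index_ne_zero_of_finite
    rw [hV4, ← h2, ← h1, hidx] at h3
    -- h3 : card N * i = card Nb * i * 4
    have h5 : Nat.card N = Nat.card Nb * 4 := by
      have : Nat.card N * Nb.index = (Nat.card Nb * 4) * Nb.index := by rw [h3]; ring
      exact Nat.eq_of_mul_eq_mul_right hpos this
    omega
  -- step 3
  obtain ⟨hsqQ, hZ2Q⟩ := IH hNQ hnaQ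
  have hsqU : ∀ x : X, x * x ∈ U := by
    intro x
    have hc : (QuotientGroup.mk (x * x) : X ⧸ V) ∈ Subgroup.center (X ⧸ V) := by
      rw [QuotientGroup.mk_mul]; exact hsqQ _
    rw [hUdef]
    refine ⟨?_, (x64_mk_mem_center V (x * x)).mp hc⟩
    rw [← hmk1, QuotientGroup.mk_mul]
    exact hZ2Q _ hc
  -- step 4
  have hcommU : ∀ x y : X, x * y * x⁻¹ * y⁻¹ ∈ U := by
    intro x y
    have e : x * y * x⁻¹ * y⁻¹ =
        ((x * y) * (x * y)) * (y⁻¹ * (x⁻¹ * x⁻¹) * y⁻¹⁻¹) * (y⁻¹ * y⁻¹) := by group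
    rw [e]
    exact U.mul_mem (U.mul_mem (hsqU _) (hUn.conj_mem _ (hsqU _) _)) (hsqU _)
  -- step 5: U is central
  have hUcen : ∀ d : X, ∀ w ∈ U, w * d = d * w := fun d => hDM d (hsqU d) (hcommU d)
  -- step 6: commutators lie in V
  have hcommV : ∀ x y : X, x * y * x⁻¹ * y⁻¹ ∈ V := by
    intro x y
    have hcU := hcommU x y
    apply hUinv _ hcU
    have h1 := hid x y
    have h2 : x * (x * y * x⁻¹ * y⁻¹) * x⁻¹ = x * y * x⁻¹ * y⁻¹ := by
      rw [← hUcen x _ hcU, mul_inv_cancel_right]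
    rw [h2] at h1
    rw [← h1]
    have h3 := hUcen y _ (hsqU x)
    rw [h3, mul_inv_cancel_right, mul_inv_cancel]
  exact hna (x64_ab hX hG ρ V hVdef hV4 hirr U hUdef hU16 hcommV)

end Cfsg.Agent.X64
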