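import Mathlib
import Cfsg.Agent.X64.Setup

/-!
# S1904, piece I, step 4B (i): an element centralizing some `u ∈ U \ V` centralizes `U` (helper8)
-/

namespace Cfsg.Agent.X64

universe u v

set_option maxHeartbeats 800000 in
theorem x64_inj {X : Type u} [Group X] [Finite X] (hX : IsPGroup 2 X)
    {G : Type v} [Group G] [Finite G] (hG : Odd (Nat.card G)) (ρ : G →* MulAut X)
    (hgen : Subgroup.closure {g : X | ∃ a : G, ∃ x : X, g = x⁻¹ * ρ a x} = ⊤)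
    (V : Subgroup X) (hVdef : ∀ z : X, z ∈ V ↔ z ∈ Subgroup.center X ∧ z * z = 1)
    (hV4 : Nat.card V = 4)
    (hirr : ∀ v ∈ V, (∀ a : G, ρ a v = v) → v = 1)
    (U : Subgroup X) (hUdef : ∀ u : X, u ∈ U ↔ u * u ∈ V ∧ ∀ x : X, u * x * u⁻¹ * x⁻¹ ∈ V)
    (hUab : ∀ u ∈ U, ∀ w ∈ U, u * w = w * u) (hUinv : ∀ u ∈ U, u * u = 1 → u ∈ V)
    (hUsq : ∀ v ∈ V, ∃ u ∈ U, u * u = v) (hU16 : Nat.card U = 16)
    (x u : X) (hu : u ∈ U) (huV : u ∉ V) (hux : u * x = x * u) : ∀ w ∈ U, w * x = x * w := by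
  have hVc : ∀ {v : X}, v ∈ V → ∀ y : X, y * v = v * y := fun hv y => x64_V_comm V hVdef hv y
  have hV2 : ∀ v ∈ V, v * v = 1 := fun v hv => x64_V_sq V hVdef hv
  have hVinv : ∀ a : G, ∀ v ∈ V, ρ a v ∈ V := fun a v hv => x64_V_inv ρ V hVdef a hv
  have hUinvar : ∀ a : G, ∀ w ∈ U, ρ a w ∈ U := fun a w hw => x64_U_inv ρ V hVdef U hUdef a hw
  have hVU : V ≤ U := x64_V_le_U V hVdef U hUdef
  haveI hUn : U.Normal := x64_U_normal V hVdef U hUdef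
  have hcV : ∀ {w : X}, w ∈ U → ∀ y : X, x64_c w y ∈ V := fun hw y => x64_U_c_mem V U hUdef hw y
  have hcR : ∀ {w : X}, w ∈ U → ∀ y z : X, x64_c w (y * z) = x64_c w y * x64_c w z :=
    fun hw y z => x64_c_mul_right V hVdef U hUdef hw y z
  have hcL : ∀ {w w' : X}, w ∈ U → w' ∈ U → ∀ y : X, x64_c (w * w') y = x64_c w y * x64_c w' y :=
    fun hw hw' y => x64_c_mul_left V hVdef U hUdef hw hw' y
  have hcVone : ∀ {k : X}, k ∈ V → ∀ y : X, x64_c k y = 1 := fun hk y => x64_c_of_mem_V V hVdef hk y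
  have hcinv : ∀ {w : X}, w ∈ U → ∀ y : X, x64_c w y⁻¹ = x64_c w y :=
    fun hw y => x64_c_inv_right V hVdef U hUdef hw y
  -- (H0): same square => differ by an element of V
  have hsame : ∀ p ∈ U, ∀ w ∈ U, w * w = p * p → p⁻¹ * w ∈ V := by
    intro p hp w hw h
    have hk : p⁻¹ * w ∈ U := U.mul_mem (U.inv_mem hp) hw
    apply hUinv _ hk
    have e1 : w * p⁻¹ = p⁻¹ * w := hUab w hw p⁻¹ (U.inv_mem hp)
    calc p⁻¹ * w * (p⁻¹ * w) = p⁻¹ * (w * p⁻¹) * w := by group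
      _ = p⁻¹ * (p⁻¹ * w) * w := by rw [e1]
      _ = (p * p)⁻¹ * (w * w) := by group
      _ = 1 := by rw [h, inv_mul_cancel]
  -- (H): same square => same commutator with any y
  have hH : ∀ p ∈ U, ∀ w ∈ U, w * w = p * p → ∀ y : X, x64_c w y = x64_c p y := by
    intro p hp w hw h y
    have hk := hsame p hp w hw h
    have e : w = p * (p⁻¹ * w) := by group
    rw [e, hcL hp (hVU hk) y, hcVone hk y, mul_one]
  -- the centralizer
  set M : Subgroup X := Subgroup.centralizer (U : Set X) with hMdef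
  haveI hMn : M.Normal := Subgroup.normal_centralizer
  have hM_iff : ∀ y : X, y ∈ M ↔ ∀ w ∈ U, x64_c w y = 1 := by
    intro y
    rw [hMdef, Subgroup.mem_centralizer_iff]
    constructor
    · intro h w hw
      rw [x64_c_eq_one_iff]
      exact h w hw
    · intro h w hw
      have := h w hw
      rw [x64_c_eq_one_iff] at this
      exact this
  have hMinv : ∀ a : G, ∀ n ∈ M, ρ a n ∈ M := by
    intro a n hn
    rw [hM_iff] at hn ⊢
    intro w hw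
    have hw' : ρ a⁻¹ w ∈ U := hUinvar a⁻¹ w hw
    have h1 := hn _ hw'
    have h2 := congrArg (ρ a) h1
    rw [x64_c_map, map_one, ← MulAut.mul_apply, ← map_mul, mul_inv_cancel, map_one,
      MulAut.one_apply] at h2
    exact h2
  have hMab : ∀ y z : X, y * z * y⁻¹ * z⁻¹ ∈ M := by
    intro y z
    rw [hM_iff]
    intro w hw
    rw [hcR hw, hcR hw, hcR hw, hcinv hw, hcinv hw]
    have h1 := hcV hw y
    have h2 := hcV hw z
    have h3 : x64_c w z * x64_c w y = x64_c w y * x64_c w z := hVc h1 _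
    calc x64_c w y * x64_c w z * x64_c w y * x64_c w z
        = x64_c w y * (x64_c w z * x64_c w y) * x64_c w z := by group
      _ = x64_c w y * (x64_c w y * x64_c w z) * x64_c w z := by rw [h3]
      _ = (x64_c w y * x64_c w y) * (x64_c w z * x64_c w z) := by group
      _ = 1 := by rw [hV2 _ h1, hV2 _ h2, one_mul]
  -- agreeing on V
  have hdep : ∀ a b : G, (∀ v ∈ V, ρ a v = ρ b v) → ∀ w ∈ U, ∀ y : X,
      x64_c w (ρ a y) = x64_c w (ρ b y) := by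
    intro a b hab w hw y
    have hw1 : ρ a⁻¹ w ∈ U := hUinvar a⁻¹ w hw
    have hw2 : ρ b⁻¹ w ∈ U := hUinvar b⁻¹ w hw
    have ea : ρ a (ρ a⁻¹ w) = w := by
      rw [← MulAut.mul_apply, ← map_mul, mul_inv_cancel, map_one, MulAut.one_apply]
    have eb : ρ b (ρ b⁻¹ w) = w := by
      rw [← MulAut.mul_apply, ← map_mul, mul_inv_cancel, map_one, MulAut.one_apply]
    have hww : w * w ∈ V := x64_U_sq_mem V U hUdef hw
    -- inverse actions agree on V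
    have hinvagree : ρ a⁻¹ (w * w) = ρ b⁻¹ (w * w) := by
      have hv' : ρ a⁻¹ (w * w) ∈ V := hVinv a⁻¹ _ hww
      have h1 : ρ b (ρ a⁻¹ (w * w)) = w * w := by
        rw [← hab _ hv', ← MulAut.mul_apply, ← map_mul, mul_inv_cancel, map_one, MulAut.one_apply]
      have h2 : ρ b⁻¹ (ρ b (ρ a⁻¹ (w * w))) = ρ a⁻¹ (w * w) := by
        rw [← MulAut.mul_apply, ← map_mul, inv_mul_cancel, map_one, MulAut.one_apply]
      rw [← h2, h1]
    have hsq : ρ b⁻¹ w * ρ b⁻¹ w = ρ a⁻¹ w * ρ a⁻¹ w := by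
      rw [← map_mul, ← map_mul, hinvagree]
    have h12 := hH _ hw1 _ hw2 hsq y
    calc x64_c w (ρ a y) = x64_c (ρ a (ρ a⁻¹ w)) (ρ a y) := by rw [ea]
      _ = ρ a (x64_c (ρ a⁻¹ w) y) := (x64_c_map ρ a _ _).symm
      _ = ρ b (x64_c (ρ a⁻¹ w) y) := hab _ (hcV hw1 y)
      _ = ρ b (x64_c (ρ b⁻¹ w) y) := by rw [h12]
      _ = x64_c (ρ b (ρ b⁻¹ w)) (ρ b y) := x64_c_map ρ b _ _
      _ = x64_c w (ρ b y) := by rw [eb]
  -- the 3-cycle
  obtain ⟨g₀, hF1, hF2⟩ := x64_four hG ρ V hV4 hV2 hVinv hirr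
  have hF3 : ∀ v ∈ V, ρ g₀ (ρ g₀ (ρ g₀ v)) = v := by
    intro v hv
    have h1 := hF1 v hv
    have h2 := hF1 (ρ g₀ v) (hVinv g₀ v hv)
    have h3 : v * (ρ g₀ v * ρ g₀ (ρ g₀ v)) = 1 := by rw [← mul_assoc]; exact h1
    have h4 : v = (ρ g₀ v * ρ g₀ (ρ g₀ v))⁻¹ := eq_inv_of_mul_eq_one_left h3
    have h5 : ρ g₀ (ρ g₀ (ρ g₀ v)) = (ρ g₀ v * ρ g₀ (ρ g₀ v))⁻¹ := eq_inv_of_mul_eq_one_right h2
    rw [h5, ← h4]
  have hfixg : ∀ t ∈ V, ρ g₀ t = t → t = 1 := by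
    intro t ht h
    have h1 := hF1 t ht
    rw [h, h, hV2 t ht, one_mul] at h1
    exact h1
  -- T(w)
  have hprod : ∀ a : G, ∀ w ∈ U,
      x64_c w (ρ a x) * x64_c w (ρ (a * g₀) x) * x64_c w (ρ (a * g₀ * g₀) x) =
      x64_c w x * x64_c w (ρ g₀ x) * x64_c w (ρ (g₀ * g₀) x) := by
    intro a w hw
    have hagree_mul : ∀ b b' h : G, (∀ v ∈ V, ρ b v = ρ b' v) → ∀ v ∈ V, ρ (b * h) v = ρ (b' * h) v := by
      intro b b' h hb v hv
      rw [map_mul, map_mul, MulAut.mul_apply, MulAut.mul_apply]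
      exact hb _ (hVinv h v hv)
    have hg3 : ∀ v ∈ V, ρ (g₀ * g₀ * g₀) v = ρ (1 : G) v := by
      intro v hv
      rw [map_mul, map_mul, MulAut.mul_apply, MulAut.mul_apply, map_one, MulAut.one_apply]
      exact hF3 v hv
    have c0 := hcV hw x
    have c1 := hcV hw (ρ g₀ x)
    have c2 := hcV hw (ρ (g₀ * g₀) x)
    rcases hF2 a with h | h | h
    · -- a ~ 1
      have h0 : ∀ v ∈ V, ρ a v = ρ (1 : G) v := by
        intro v hv; rw [h v hv, map_one, MulAut.one_apply]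
      have e0 := hdep a 1 h0 w hw x
      have e1 := hdep (a * g₀) (1 * g₀) (hagree_mul a 1 g₀ h0) w hw x
      have e2 := hdep (a * g₀ * g₀) (1 * g₀ * g₀)
        (hagree_mul (a * g₀) (1 * g₀) g₀ (hagree_mul a 1 g₀ h0)) w hw x
      rw [e0, e1, e2, one_mul, map_one, MulAut.one_apply]
    · -- a ~ g₀
      have h0 : ∀ v ∈ V, ρ a v = ρ g₀ v := h
      have e0 := hdep a g₀ h0 w hw x
      have e1 := hdep (a * g₀) (g₀ * g₀) (hagree_mul a g₀ g₀ h0) w hw x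
      have e2 := hdep (a * g₀ * g₀) (g₀ * g₀ * g₀)
        (hagree_mul (a * g₀) (g₀ * g₀) g₀ (hagree_mul a g₀ g₀ h0)) w hw x
      have e3 := hdep (g₀ * g₀ * g₀) 1 hg3 w hw x
      rw [e0, e1, e2, e3, map_one, MulAut.one_apply]
      -- c1 * c2 * c0 = c0 * c1 * c2
      have k1 : x64_c w (ρ g₀ x) * x64_c w (ρ (g₀ * g₀) x) * x64_c w x
          = x64_c w x * (x64_c w (ρ g₀ x) * x64_c w (ρ (g₀ * g₀) x)) := hVc c0 _
      rw [k1, mul_assoc]
    · -- a ~ g₀²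
      have h0 : ∀ v ∈ V, ρ a v = ρ (g₀ * g₀) v := by
        intro v hv; rw [h v hv, map_mul, MulAut.mul_apply]
      have e0 := hdep a (g₀ * g₀) h0 w hw x
      have e1 := hdep (a * g₀) (g₀ * g₀ * g₀) (hagree_mul a (g₀ * g₀) g₀ h0) w hw x
      have e2 := hdep (a * g₀ * g₀) (g₀ * g₀ * g₀ * g₀)
        (hagree_mul (a * g₀) (g₀ * g₀ * g₀) g₀ (hagree_mul a (g₀ * g₀) g₀ h0)) w hw x
      have e3 := hdep (g₀ * g₀ * g₀) 1 hg3 w hw x
      have e4 := hdep (g₀ * g₀ * g₀ * g₀) (1 * g₀) (hagree_mul (g₀ * g₀ * g₀) 1 g₀ hg3) w hw x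
      rw [e0, e1, e2, e3, e4, one_mul, map_one, MulAut.one_apply]
      -- c2 * c0 * c1 = c0 * c1 * c2
      have k1 : x64_c w (ρ (g₀ * g₀) x) * (x64_c w x * x64_c w (ρ g₀ x))
          = x64_c w x * x64_c w (ρ g₀ x) * x64_c w (ρ (g₀ * g₀) x) := (hVc c2 _).symm
      rw [mul_assoc, k1]
  -- the norm element
  obtain ⟨x', hx'def⟩ : ∃ x' : X, x' = x * ρ g₀ x * ρ (g₀ * g₀) x := ⟨_, rfl⟩
  have hx'c : ∀ w ∈ U, x64_c w x' = x64_c w x * x64_c w (ρ g₀ x) * x64_c w (ρ (g₀ * g₀) x) := by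
    intro w hw
    rw [hx'def, hcR hw, hcR hw]
  have hx'a : ∀ a : G, ρ a x' = ρ a x * ρ (a * g₀) x * ρ (a * g₀ * g₀) x := by
    intro a
    rw [hx'def, map_mul, map_mul]
    congr 1
    · congr 1
      rw [map_mul, MulAut.mul_apply]
    · rw [map_mul (f := ρ) (a * g₀) g₀, map_mul (f := ρ) a g₀, map_mul (f := ρ) g₀ g₀]
      simp only [MulAut.mul_apply]
  have hx'M : x' ∈ M := by
    apply x64_norm hX hG ρ hgen M hMinv hMab x'
    intro a
    rw [hM_iff]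
    intro w hw
    have e1 : x64_c w (x'⁻¹ * ρ a x') = x64_c w x' * x64_c w (ρ a x') := by
      rw [hcR hw, hcinv hw]
    have e2 : x64_c w (ρ a x') = x64_c w x' := by
      rw [hx'a a, hcR hw, hcR hw, hprod a w hw, ← hx'c w hw]
    rw [e1, e2]
    exact hV2 _ (hcV hw x')
  have hstar : ∀ w ∈ U, x64_c w x * x64_c w (ρ g₀ x) * x64_c w (ρ (g₀ * g₀) x) = 1 := by
    intro w hw
    rw [← hx'c w hw]
    exact (hM_iff x').mp hx'M w hw
  -- the elements u, u₁, u₂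
  have hc0 : x64_c u x = 1 := (x64_c_eq_one_iff u x).mpr hux
  set u₁ := ρ g₀ u with hu₁def
  set u₂ := ρ g₀ u₁ with hu₂def
  have hu₁ : u₁ ∈ U := hUinvar g₀ u hu
  have hu₂ : u₂ ∈ U := hUinvar g₀ u₁ hu₁
  set vv := u * u with hvvdef
  have hvv : vv ∈ V := x64_U_sq_mem V U hUdef hu
  have hvv1 : vv ≠ 1 := fun h => huV (hUinv u hu h)
  have hu₁sq : u₁ * u₁ = ρ g₀ vv := by rw [hu₁def, hvvdef, map_mul]
  have hu₂sq : u₂ * u₂ = ρ g₀ (ρ g₀ vv) := by rw [hu₂def, ← map_mul, hu₁sq]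
  -- u u₁ u₂ ∈ V
  have h012 : u * u₁ * u₂ ∈ V := by
    apply hUinv _ (U.mul_mem (U.mul_mem hu hu₁) hu₂)
    have e1 : u₁ * u = u * u₁ := hUab u₁ hu₁ u hu
    have e2 : u₂ * u = u * u₂ := hUab u₂ hu₂ u hu
    have e3 : u₂ * u₁ = u₁ * u₂ := hUab u₂ hu₂ u₁ hu₁
    calc u * u₁ * u₂ * (u * u₁ * u₂) = u * u₁ * (u₂ * u) * u₁ * u₂ := by group
      _ = u * u₁ * (u * u₂) * u₁ * u₂ := by rw [e2]
      _ = u * (u₁ * u) * (u₂ * u₁) * u₂ := by group
      _ = u * (u * u₁) * (u₁ * u₂) * u₂ := by rw [e1, e3]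
      _ = (u * u) * (u₁ * u₁) * (u₂ * u₂) := by group
      _ = 1 := by rw [← hvvdef, hu₁sq, hu₂sq]; exact hF1 vv hvv
  have h12 : x64_c u₁ x * x64_c u₂ x = 1 := by
    have h := hcVone h012 x
    rw [hcL (U.mul_mem hu hu₁) hu₂, hcL hu hu₁, hc0, one_mul] at h
    exact h
  have ht : x64_c u₁ x ∈ V := hcV hu₁ x
  have h21 : x64_c u₂ x = x64_c u₁ x := by
    have h2 : x64_c u₂ x = (x64_c u₁ x)⁻¹ := eq_inv_of_mul_eq_one_right h12
    rw [h2, x64_V_inv_eq V hVdef ht]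
  -- (A)
  have hA : x64_c u₁ x * ρ (g₀ * g₀) (x64_c u₂ x) = 1 := by
    have h := hstar u₁ hu₁
    have e1 : x64_c u₁ (ρ g₀ x) = 1 := by
      rw [hu₁def, ← x64_c_map, hc0, map_one]
    have e2 : x64_c u₁ (ρ (g₀ * g₀) x) = ρ (g₀ * g₀) (x64_c u₂ x) := by
      rw [x64_c_map]
      have hw : ρ (g₀ * g₀) u₂ ∈ U := hUinvar _ _ hu₂
      apply (hH u₁ hu₁ _ hw _ _).symm
      rw [← map_mul, hu₂sq, hu₁sq, map_mul, MulAut.mul_apply, hF3 _ (hVinv g₀ vv hvv)]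
    rw [e1, e2, mul_one] at h
    exact h
  have ht1 : x64_c u₁ x = 1 := by
    rw [h21] at hA
    have h1 : ρ (g₀ * g₀) (x64_c u₁ x) = x64_c u₁ x := by
      have h2 : ρ (g₀ * g₀) (x64_c u₁ x) = (x64_c u₁ x)⁻¹ := eq_inv_of_mul_eq_one_right hA
      rw [h2, x64_V_inv_eq V hVdef ht]
    rw [map_mul, MulAut.mul_apply] at h1
    have h3 := hF3 _ ht
    rw [h1] at h3
    exact hfixg _ ht h3
  have ht2 : x64_c u₂ x = 1 := by rw [h21, ht1]
  -- all of U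
  have hv' : ρ g₀ vv ∈ V := hVinv g₀ vv hvv
  have hv'1 : ρ g₀ vv ≠ 1 := by
    intro h
    apply hvv1
    apply (ρ g₀).injective
    rw [h, map_one]
  have hvv' : vv ≠ ρ g₀ vv := by
    intro h
    exact hvv1 (hfixg vv hvv h.symm)
  have hcases := x64_four_cases V hV4.le hV2 vv (ρ g₀ vv) hvv hv' hvv1 hv'1 hvv'
  intro w hw
  rw [← x64_c_eq_one_iff]
  rcases hcases (w * w) (x64_U_sq_mem V U hUdef hw) with h | h | h | h
  · exact hcVone (hUinv w hw h) x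
  · rw [hH u hu w hw h x, hc0]
  · rw [hH u₁ hu₁ w hw (by rw [h, hu₁sq]) x, ht1]
  · have huu₁ : u * u₁ ∈ U := U.mul_mem hu hu₁
    have e1 : u₁ * u = u * u₁ := hUab u₁ hu₁ u hu
    have hsq : w * w = (u * u₁) * (u * u₁) := by
      rw [h, ← hu₁sq, hvvdef]
      calc u * u * (u₁ * u₁) = u * (u * u₁) * u₁ := by group
        _ = u * (u₁ * u) * u₁ := by rw [e1]
        _ = u * u₁ * (u * u₁) := by group
    rw [hH _ huu₁ w hw hsq x, hcL hu hu₁, hc0, ht1, one_mul]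

end Cfsg.Agent.X64
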