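import Mathlib
import Cfsg.Prelude.Def_Transfer
import Cfsg.Agent.X64.Basic
import Cfsg.Agent.X64.Inj

/-!
# S1904, piece I, branch B (helper4)

In the tower situation (`V = Ω₁(Z(X))` of order `4` without `G`-fixed involution, `U` the preimage
of `Ω₁(Z(X/V))`, abelian of order `16` with `Ω₁(U) = V` and squaring onto `V`): an element `d` with
`d² ∈ U`, `[d, X] ≤ U` that does not centralize `U` does not exist (in a nonabelian `X`).
-/

set_option autoImplicit false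
set_option linter.style.haveILetI false

namespace Cfsg.Agent.X64

universe u v

section identities

variable {X : Type u} [Group X]

theorem x64_bb_comm_mul_right (u x y : X) (h : u * y * u⁻¹ * y⁻¹ ∈ Subgroup.center X) :
    u * (x * y) * u⁻¹ * (x * y)⁻¹ = (u * x * u⁻¹ * x⁻¹) * (u * y * u⁻¹ * y⁻¹) := by
  have hc := Subgroup.mem_center_iff.mp h
  calc u * (x * y) * u⁻¹ * (x * y)⁻¹ = u * x * u⁻¹ * ((u * y * u⁻¹ * y⁻¹) * x⁻¹) := by group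
    _ = u * x * u⁻¹ * (x⁻¹ * (u * y * u⁻¹ * y⁻¹)) := by rw [← hc x⁻¹]
    _ = (u * x * u⁻¹ * x⁻¹) * (u * y * u⁻¹ * y⁻¹) := by group

theorem x64_bb_comm_mul_left (u w x : X) (h : w * x * w⁻¹ * x⁻¹ ∈ Subgroup.center X) :
    (u * w) * x * (u * w)⁻¹ * x⁻¹ = (u * x * u⁻¹ * x⁻¹) * (w * x * w⁻¹ * x⁻¹) := by
  have hc := Subgroup.mem_center_iff.mp h
  calc (u * w) * x * (u * w)⁻¹ * x⁻¹ = (u * (w * x * w⁻¹ * x⁻¹)) * (x * u⁻¹ * x⁻¹) := by group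
    _ = ((w * x * w⁻¹ * x⁻¹) * u) * (x * u⁻¹ * x⁻¹) := by rw [hc u]
    _ = (w * x * w⁻¹ * x⁻¹) * (u * x * u⁻¹ * x⁻¹) := by group
    _ = (u * x * u⁻¹ * x⁻¹) * (w * x * w⁻¹ * x⁻¹) := (hc _).symm

/-- if `e * e` is central then `e` inverts `c = [e, y]`, hence `[c, e] = c * c` -/
theorem x64_bb_sq_comm (e y : X) (hcen : e * e ∈ Subgroup.center X) :
    (e * y * e⁻¹ * y⁻¹) * e * (e * y * e⁻¹ * y⁻¹)⁻¹ * e⁻¹
      = (e * y * e⁻¹ * y⁻¹) * (e * y * e⁻¹ * y⁻¹) := by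
  have hc := Subgroup.mem_center_iff.mp hcen
  have h1 : e * (e * y * e⁻¹ * y⁻¹) * e⁻¹ * (e * y * e⁻¹ * y⁻¹) = 1 := by
    calc e * (e * y * e⁻¹ * y⁻¹) * e⁻¹ * (e * y * e⁻¹ * y⁻¹)
        = ((e * e) * y) * (e * e)⁻¹ * y⁻¹ := by group
      _ = (y * (e * e)) * (e * e)⁻¹ * y⁻¹ := by rw [← hc y]
      _ = 1 := by group
  have h2 : e * (e * y * e⁻¹ * y⁻¹)⁻¹ * e⁻¹ = e * y * e⁻¹ * y⁻¹ := by
    have h3 : e * (e * y * e⁻¹ * y⁻¹) * e⁻¹ = (e * y * e⁻¹ * y⁻¹)⁻¹ := eq_inv_of_mul_eq_one_left h1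
    calc e * (e * y * e⁻¹ * y⁻¹)⁻¹ * e⁻¹ = (e * (e * y * e⁻¹ * y⁻¹) * e⁻¹)⁻¹ := by group
      _ = e * y * e⁻¹ * y⁻¹ := by rw [h3, inv_inv]
  calc (e * y * e⁻¹ * y⁻¹) * e * (e * y * e⁻¹ * y⁻¹)⁻¹ * e⁻¹
      = (e * y * e⁻¹ * y⁻¹) * (e * (e * y * e⁻¹ * y⁻¹)⁻¹ * e⁻¹) := by group
    _ = (e * y * e⁻¹ * y⁻¹) * (e * y * e⁻¹ * y⁻¹) := by rw [h2]

/-- commutators in terms of squares, when `x * x` is central -/
theorem x64_bb_comm_eq_sq (x y : X) (hcen : x * x ∈ Subgroup.center X) :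
    x * y * x⁻¹ * y⁻¹ = (x * y * (x * y)) * (x * x)⁻¹ * (y * y)⁻¹ := by
  have h1 : y * (x * x)⁻¹ = (x * x)⁻¹ * y := by
    have h := (Subgroup.mem_center_iff.mp hcen) y
    calc y * (x * x)⁻¹ = (x * x)⁻¹ * ((x * x) * y) * (x * x)⁻¹ := by group
      _ = (x * x)⁻¹ * (y * (x * x)) * (x * x)⁻¹ := by rw [h]
      _ = (x * x)⁻¹ * y := by group
  symm
  calc (x * y * (x * y)) * (x * x)⁻¹ * (y * y)⁻¹
      = x * y * x * (y * (x * x)⁻¹) * (y * y)⁻¹ := by group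
    _ = x * y * x * ((x * x)⁻¹ * y) * (y * y)⁻¹ := by rw [h1]
    _ = x * y * x⁻¹ * y⁻¹ := by group

/-- `w` commutes with `x` iff the commutator is trivial -/
theorem x64_bb_comm_iff (w x : X) : w * x = x * w ↔ w * x * w⁻¹ * x⁻¹ = 1 := by
  constructor
  · intro h; rw [h]; group
  · intro h
    calc w * x = (w * x * w⁻¹ * x⁻¹) * (x * w) := by group
      _ = x * w := by rw [h, one_mul]

/-- membership in `M = C_X(U)` -/
theorem x64_bb_mem_M {U : Subgroup X} {x : X} :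
    x ∈ Subgroup.centralizer (U : Set X) ↔ ∀ w ∈ U, w * x = x * w :=
  Subgroup.mem_centralizer_iff

theorem x64_bb_rho_center {G : Type v} [Group G] (ρ : G →* MulAut X) (a : G) {z : X}
    (hz : z ∈ Subgroup.center X) : ρ a z ∈ Subgroup.center X := by
  rw [Subgroup.mem_center_iff] at hz ⊢
  intro g
  have := hz ((ρ a).symm g)
  have h2 := congrArg (ρ a) this
  simpa using h2

theorem x64_bb_rho_symm {G : Type v} [Group G] (ρ : G →* MulAut X) (a : G) (x : X) :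
    (ρ a).symm x = ρ a⁻¹ x := by
  rw [map_inv]; rfl

end identities

/-- the hypotheses of the tower situation -/
structure x64_bb_S {X : Type u} [Group X] {G : Type v} [Group G] (ρ : G →* MulAut X)
    (V U : Subgroup X) : Prop where
  hVdef : ∀ z : X, z ∈ V ↔ z ∈ Subgroup.center X ∧ z * z = 1
  hV4 : Nat.card V = 4
  hUdef : ∀ u : X, u ∈ U ↔ u * u ∈ V ∧ ∀ x : X, u * x * u⁻¹ * x⁻¹ ∈ V
  hUab : ∀ u ∈ U, ∀ w ∈ U, u * w = w * u
  hUinv : ∀ u ∈ U, u * u = 1 → u ∈ V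
  hinj : ∀ x u : X, u ∈ U → u ∉ V → u * x = x * u → ∀ w ∈ U, w * x = x * w
  hnorm : ∀ (N : Subgroup X), N.Normal → (∀ a : G, ∀ n ∈ N, ρ a n ∈ N) →
    (∀ x y : X, x * y * x⁻¹ * y⁻¹ ∈ N) → ∀ x : X, (∀ a : G, x⁻¹ * ρ a x ∈ N) → x ∈ N
  hg5 : ∀ K L : Subgroup X, K.Normal → L.Normal → K < L →
    ∃ s ∈ L, s ∉ K ∧ s ^ 2 ∈ K ∧ ∀ x : X, s * x * s⁻¹ * x⁻¹ ∈ K

/-- `e * e ∈ U` and `[e, X] ≤ U` -/
def x64_bb_D {X : Type u} [Group X] (U : Subgroup X) (e : X) : Prop :=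
  e * e ∈ U ∧ ∀ y : X, e * y * e⁻¹ * y⁻¹ ∈ U

/-- `u * u = [u, e]` -/
def x64_bb_E {X : Type u} [Group X] (e u : X) : Prop :=
  u * u = u * e * u⁻¹ * e⁻¹

namespace x64_bb_S

variable {X : Type u} [Group X] {G : Type v} [Group G] {ρ : G →* MulAut X} {V U : Subgroup X}
  (S : x64_bb_S ρ V U)
include S

theorem V_le_center : V ≤ Subgroup.center X := fun _ hz => ((S.hVdef _).mp hz).1

theorem V_comm {v : X} (hv : v ∈ V) (g : X) : g * v = v * g :=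
  (Subgroup.mem_center_iff.mp (S.V_le_center hv)) g

theorem V_sq {v : X} (hv : v ∈ V) : v * v = 1 := ((S.hVdef _).mp hv).2

theorem V_inv_eq {v : X} (hv : v ∈ V) : v⁻¹ = v := by
  have := S.V_sq hv
  exact inv_eq_of_mul_eq_one_left this

theorem V_le_U : V ≤ U := by
  intro v hv
  rw [S.hUdef]
  refine ⟨by rw [S.V_sq hv]; exact V.one_mem, fun x => ?_⟩
  have : v * x * v⁻¹ * x⁻¹ = 1 := by
    rw [← S.V_comm hv x]; group
  rw [this]; exact V.one_mem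

theorem U_sq {w : X} (hw : w ∈ U) : w * w ∈ V := ((S.hUdef _).mp hw).1

theorem U_comm {w : X} (hw : w ∈ U) (x : X) : w * x * w⁻¹ * x⁻¹ ∈ V := ((S.hUdef _).mp hw).2 x

theorem U_normal : U.Normal := by
  constructor
  intro w hw g
  have h1 : g * w * g⁻¹ = (w * g * w⁻¹ * g⁻¹)⁻¹ * w := by group
  rw [h1]
  exact U.mul_mem (U.inv_mem (S.V_le_U (S.U_comm hw g))) hw

theorem rho_V (a : G) {v : X} (hv : v ∈ V) : ρ a v ∈ V := by
  rw [S.hVdef]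
  refine ⟨x64_bb_rho_center ρ a (S.V_le_center hv), ?_⟩
  rw [← map_mul, S.V_sq hv, map_one]

theorem rho_U (a : G) {w : X} (hw : w ∈ U) : ρ a w ∈ U := by
  rw [S.hUdef]
  refine ⟨by rw [← map_mul]; exact S.rho_V a (S.U_sq hw), fun x => ?_⟩
  have h1 : ρ a w * x * (ρ a w)⁻¹ * x⁻¹
      = ρ a (w * ((ρ a).symm x) * w⁻¹ * ((ρ a).symm x)⁻¹) := by
    simp only [map_mul, map_inv, MulEquiv.apply_symm_apply]
  rw [h1]
  exact S.rho_V a (S.U_comm hw _)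

theorem U_le_M : U ≤ Subgroup.centralizer (U : Set X) := by
  intro w hw
  rw [x64_bb_mem_M]
  intro w' hw'
  exact S.hUab w' hw' w hw

theorem rho_M (a : G) {x : X} (hx : x ∈ Subgroup.centralizer (U : Set X)) :
    ρ a x ∈ Subgroup.centralizer (U : Set X) := by
  rw [x64_bb_mem_M] at hx ⊢
  intro w hw
  have h1 := hx ((ρ a).symm w) (by rw [x64_bb_rho_symm]; exact S.rho_U a⁻¹ hw)
  have h2 := congrArg (ρ a) h1
  simpa only [map_mul, MulEquiv.apply_symm_apply] using h2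

theorem comm_M (x y : X) : x * y * x⁻¹ * y⁻¹ ∈ Subgroup.centralizer (U : Set X) := by
  rw [x64_bb_mem_M]
  intro w hw
  rw [x64_bb_comm_iff]
  have hcx := S.V_le_center (S.U_comm hw x)
  have hcy := S.V_le_center (S.U_comm hw y)
  have hcxi := S.V_le_center (S.U_comm hw x⁻¹)
  have hcyi := S.V_le_center (S.U_comm hw y⁻¹)
  have e1 : w * (x * y * x⁻¹ * y⁻¹) * w⁻¹ * (x * y * x⁻¹ * y⁻¹)⁻¹
      = (w * x * w⁻¹ * x⁻¹) * (w * y * w⁻¹ * y⁻¹) * (w * x⁻¹ * w⁻¹ * x⁻¹⁻¹) *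
        (w * y⁻¹ * w⁻¹ * y⁻¹⁻¹) := by
    rw [x64_bb_comm_mul_right w (x * y * x⁻¹) y⁻¹ hcyi, x64_bb_comm_mul_right w (x * y) x⁻¹ hcxi,
      x64_bb_comm_mul_right w x y hcy]
  have e2 : ∀ z : X, (w * z * w⁻¹ * z⁻¹) * (w * z⁻¹ * w⁻¹ * z⁻¹⁻¹) = 1 := by
    intro z
    rw [← x64_bb_comm_mul_right w z z⁻¹ (S.V_le_center (S.U_comm hw z⁻¹))]
    group
  rw [e1]
  have hyx := (Subgroup.mem_center_iff.mp hcy) (w * x⁻¹ * w⁻¹ * x⁻¹⁻¹)
  calc (w * x * w⁻¹ * x⁻¹) * (w * y * w⁻¹ * y⁻¹) * (w * x⁻¹ * w⁻¹ * x⁻¹⁻¹) * (w * y⁻¹ * w⁻¹ * y⁻¹⁻¹)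
      = (w * x * w⁻¹ * x⁻¹) * ((w * y * w⁻¹ * y⁻¹) * (w * x⁻¹ * w⁻¹ * x⁻¹⁻¹)) *
        (w * y⁻¹ * w⁻¹ * y⁻¹⁻¹) := by group
    _ = (w * x * w⁻¹ * x⁻¹) * ((w * x⁻¹ * w⁻¹ * x⁻¹⁻¹) * (w * y * w⁻¹ * y⁻¹)) *
        (w * y⁻¹ * w⁻¹ * y⁻¹⁻¹) := by rw [hyx]
    _ = ((w * x * w⁻¹ * x⁻¹) * (w * x⁻¹ * w⁻¹ * x⁻¹⁻¹)) *
        ((w * y * w⁻¹ * y⁻¹) * (w * y⁻¹ * w⁻¹ * y⁻¹⁻¹)) := by group
    _ = 1 := by rw [e2 x, e2 y, one_mul]

/-! ### the elements of `D` -/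

theorem D_of_U {w : X} (hw : w ∈ U) : x64_bb_D U w :=
  ⟨S.V_le_U (S.U_sq hw), fun y => S.V_le_U (S.U_comm hw y)⟩

theorem D_mul {e m : X} (he : x64_bb_D U e) (hm : x64_bb_D U m) : x64_bb_D U (e * m) := by
  have hUn := S.U_normal
  refine ⟨?_, fun y => ?_⟩
  · have h1 : e * m * (e * m) = (e * m * e⁻¹ * m⁻¹) * (m * (e * e) * m⁻¹) * (m * m) := by group
    rw [h1]
    exact U.mul_mem (U.mul_mem (he.2 m) (hUn.conj_mem _ he.1 m)) hm.1
  · have h1 : e * m * y * (e * m)⁻¹ * y⁻¹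
        = (e * (m * y * m⁻¹ * y⁻¹) * e⁻¹) * (e * y * e⁻¹ * y⁻¹) := by group
    rw [h1]
    exact U.mul_mem (hUn.conj_mem _ (hm.2 y) e) (he.2 y)

/-- squares of elements of `D` outside `M` lie in `V` -/
theorem D_sq_mem_V {e : X} (he : x64_bb_D U e)
    (heM : e ∉ Subgroup.centralizer (U : Set X)) : e * e ∈ V := by
  by_contra h
  apply heM
  rw [x64_bb_mem_M]
  exact S.hinj e (e * e) he.1 h (by group)

/-! ### the sets `E_e` -/

theorem E_mul {e w w' : X} (hw : w ∈ U) (hw' : w' ∈ U) (h1 : x64_bb_E e w)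
    (h2 : x64_bb_E e w') : x64_bb_E e (w * w') := by
  unfold x64_bb_E at *
  rw [x64_bb_comm_mul_left w w' e (S.V_le_center (S.U_comm hw' e)), ← h1, ← h2]
  have := S.hUab w hw w' hw'
  calc w * w' * (w * w') = w * (w' * w) * w' := by group
    _ = w * (w * w') * w' := by rw [← this]
    _ = w * w * (w' * w') := by group

theorem E_of_V {e v : X} (hv : v ∈ V) : x64_bb_E e v := by
  unfold x64_bb_E
  rw [S.V_sq hv, ← S.V_comm hv e]; group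

theorem E_inv {e w : X} (hw : w ∈ U) (h1 : x64_bb_E e w) : x64_bb_E e w⁻¹ := by
  have h2 : (w * w)⁻¹ ∈ V := V.inv_mem (S.U_sq hw)
  have h3 := S.E_mul hw (S.V_le_U h2) h1 (S.E_of_V (e := e) h2)
  have h4 : w * (w * w)⁻¹ = w⁻¹ := by group
  rwa [h4] at h3

/-- `[w, e⁻¹] [w, e] = 1` for `w ∈ U` -/
theorem comm_inv_mul {w : X} (hw : w ∈ U) (e : X) :
    (w * e⁻¹ * w⁻¹ * e⁻¹⁻¹) * (w * e * w⁻¹ * e⁻¹) = 1 := by
  rw [← x64_bb_comm_mul_right w e⁻¹ e (S.V_le_center (S.U_comm hw e))]; group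

/-- `E_e` is not all of `U` when `e ∈ D` does not centralize `U` -/
theorem exists_not_E {e : X} (heM : e ∉ Subgroup.centralizer (U : Set X)) :
    ∃ w ∈ U, ¬ x64_bb_E e w := by
  by_contra hcon
  push Not at hcon
  apply heM
  have hUn := S.U_normal
  refine S.hnorm (Subgroup.centralizer (U : Set X)) Subgroup.normal_centralizer
    (fun a n hn => S.rho_M a hn) S.comm_M e ?_
  intro a
  rw [x64_bb_mem_M]
  intro w hw
  rw [x64_bb_comm_iff, x64_bb_comm_mul_right w e⁻¹ (ρ a e) (S.V_le_center (S.U_comm hw _))]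
  have h1 : w * w = w * ρ a e * w⁻¹ * (ρ a e)⁻¹ := by
    have hw' : (ρ a).symm w ∈ U := by rw [x64_bb_rho_symm]; exact S.rho_U a⁻¹ hw
    have h := hcon _ hw'
    unfold x64_bb_E at h
    have h2 := congrArg (ρ a) h
    simpa only [map_mul, map_inv, MulEquiv.apply_symm_apply] using h2
  have h2 : w * w = w * e * w⁻¹ * e⁻¹ := hcon w hw
  rw [← h1, h2]
  exact S.comm_inv_mul hw e

/-- `E_{e₁} ∩ E_{e₂} = V` when `e₂⁻¹ e₁` does not centralize `U` -/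
theorem E_inter {e1 e2 w : X} (h12 : e2⁻¹ * e1 ∉ Subgroup.centralizer (U : Set X)) (hw : w ∈ U)
    (h1 : x64_bb_E e1 w) (h2 : x64_bb_E e2 w) : w ∈ V := by
  by_contra hwV
  apply h12
  rw [x64_bb_mem_M]
  apply S.hinj (e2⁻¹ * e1) w hw hwV
  rw [x64_bb_comm_iff, x64_bb_comm_mul_right w e2⁻¹ e1 (S.V_le_center (S.U_comm hw _))]
  unfold x64_bb_E at h1 h2
  rw [← h1, h2]
  exact S.comm_inv_mul hw e2

/-- for `m ∈ D ∩ M` and `e ∈ D` outside `M`: `m * m ∈ E_e` -/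
theorem E_sq {e m : X} (he : x64_bb_D U e) (heM : e ∉ Subgroup.centralizer (U : Set X))
    (hm : m ∈ Subgroup.centralizer (U : Set X)) (hmD : x64_bb_D U m) :
    x64_bb_E e (m * m) := by
  have hee : e * e ∈ V := S.D_sq_mem_V he heM
  have heeC := S.V_le_center hee
  have hc0 : e * m * e⁻¹ * m⁻¹ ∈ U := he.2 m
  have hemM : e * m ∉ Subgroup.centralizer (U : Set X) := by
    intro h
    apply heM
    have := (Subgroup.centralizer (U : Set X)).mul_mem h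
      ((Subgroup.centralizer (U : Set X)).inv_mem hm)
    rwa [mul_inv_cancel_right] at this
  have hem2 : e * m * (e * m) ∈ V := S.D_sq_mem_V (S.D_mul he hmD) hemM
  -- (e m)(e m) = c0 (e e) (m m)
  have h1 : e * m * (e * m) = (e * m * e⁻¹ * m⁻¹) * (m * (e * e)) * m := by group
  have h2 : (e * m * e⁻¹ * m⁻¹) * (m * m) = (e * e)⁻¹ * (e * m * (e * m)) := by
    rw [h1, (Subgroup.mem_center_iff.mp heeC) m]
    have h3 := (Subgroup.mem_center_iff.mp heeC) (e * m * e⁻¹ * m⁻¹)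
    calc (e * m * e⁻¹ * m⁻¹) * (m * m)
        = (e * e)⁻¹ * ((e * e) * (e * m * e⁻¹ * m⁻¹)) * (m * m) := by group
      _ = (e * e)⁻¹ * ((e * m * e⁻¹ * m⁻¹) * (e * e)) * (m * m) := by rw [← h3]
      _ = (e * e)⁻¹ * ((e * m * e⁻¹ * m⁻¹) * ((e * e) * m) * m) := by group
  have hv : (e * m * e⁻¹ * m⁻¹) * (m * m) ∈ V := by
    rw [h2]; exact V.mul_mem (V.inv_mem hee) hem2
  have hEc0 : x64_bb_E e (e * m * e⁻¹ * m⁻¹) := by
    unfold x64_bb_E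
    exact (x64_bb_sq_comm e m heeC).symm
  have h4 : m * m = (e * m * e⁻¹ * m⁻¹)⁻¹ * ((e * m * e⁻¹ * m⁻¹) * (m * m)) := by group
  rw [h4]
  exact S.E_mul (U.inv_mem hc0) (S.V_le_U hv) (S.E_inv hc0 hEc0) (S.E_of_V hv)

/-- `D ∩ M ≤ U` -/
theorem D_M_le_U {e1 e2 : X} (hD1 : x64_bb_D U e1) (hD2 : x64_bb_D U e2)
    (h1M : e1 ∉ Subgroup.centralizer (U : Set X)) (h2M : e2 ∉ Subgroup.centralizer (U : Set X))
    (h12 : e2⁻¹ * e1 ∉ Subgroup.centralizer (U : Set X)) {m : X}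
    (hm : m ∈ Subgroup.centralizer (U : Set X)) (hmD : x64_bb_D U m) : m ∈ U := by
  have hmm : m * m ∈ V :=
    S.E_inter h12 hmD.1 (S.E_sq hD1 h1M hm hmD) (S.E_sq hD2 h2M hm hmD)
  rw [S.hUdef]
  refine ⟨hmm, fun y => ?_⟩
  have hc1 : m * y * m⁻¹ * y⁻¹ ∈ U := hmD.2 y
  apply S.hUinv _ hc1
  rw [← x64_bb_sq_comm m y (S.V_le_center hmm)]
  have := (x64_bb_mem_M.mp hm) _ hc1
  rw [this]; group

theorem D_rho (a : G) {e : X} (he : x64_bb_D U e) : x64_bb_D U (ρ a e) := by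
  refine ⟨by rw [← map_mul]; exact S.rho_U a he.1, fun y => ?_⟩
  have h1 : ρ a e * y * (ρ a e)⁻¹ * y⁻¹
      = ρ a (e * ((ρ a).symm y) * e⁻¹ * ((ρ a).symm y)⁻¹) := by
    simp only [map_mul, map_inv, MulEquiv.apply_symm_apply]
  rw [h1]; exact S.rho_U a (he.2 _)

/-- `M = U` -/
theorem M_eq_U {e1 e2 : X} (hD1 : x64_bb_D U e1) (hD2 : x64_bb_D U e2)
    (h1M : e1 ∉ Subgroup.centralizer (U : Set X)) (h2M : e2 ∉ Subgroup.centralizer (U : Set X))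
    (h12 : e2⁻¹ * e1 ∉ Subgroup.centralizer (U : Set X)) :
    Subgroup.centralizer (U : Set X) = U := by
  have hUn := S.U_normal
  by_contra hne
  have hlt : U < Subgroup.centralizer (U : Set X) := lt_of_le_of_ne S.U_le_M (Ne.symm hne)
  obtain ⟨s, hsM, hsU, hs2, hsX⟩ :=
    S.hg5 U (Subgroup.centralizer (U : Set X)) hUn Subgroup.normal_centralizer hlt
  exact hsU (S.D_M_le_U hD1 hD2 h1M h2M h12 hsM ⟨by rwa [sq] at hs2, hsX⟩)

/-- the contradiction -/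
theorem false_of_D [Finite X] (hna : ¬ ∀ x y : X, x * y = y * x) (hU16 : Nat.card U = 16)
    {d : X} (hd : x64_bb_D U d) (hdM : d ∉ Subgroup.centralizer (U : Set X)) : False := by
  have hUn := S.U_normal
  have h1 : ¬ ∀ a : G, d⁻¹ * ρ a d ∈ Subgroup.centralizer (U : Set X) := fun h =>
    hdM (S.hnorm _ Subgroup.normal_centralizer (fun a n hn => S.rho_M a hn) S.comm_M d h)
  push Not at h1
  obtain ⟨a, ha⟩ := h1
  have hD1 : x64_bb_D U (ρ a d) := S.D_rho a hd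
  have h1M : ρ a d ∉ Subgroup.centralizer (U : Set X) := by
    intro h
    have := S.rho_M a⁻¹ h
    rw [← x64_bb_rho_symm, MulEquiv.symm_apply_apply] at this
    exact hdM this
  have hMU := S.M_eq_U hD1 hd h1M hdM ha
  obtain ⟨u0, hu0, hu0V⟩ : ∃ u0 ∈ U, u0 ∉ V := by
    by_contra hcon
    push Not at hcon
    have : Nat.card U ≤ Nat.card V := Subgroup.card_le_of_le (fun w hw => hcon w hw)
    rw [hU16, S.hV4] at this
    omega
  have hsqM : ∀ x : X, x * x ∈ Subgroup.centralizer (U : Set X) := by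
    intro x
    rw [x64_bb_mem_M]
    apply S.hinj (x * x) u0 hu0 hu0V
    rw [x64_bb_comm_iff, x64_bb_comm_mul_right u0 x x (S.V_le_center (S.U_comm hu0 x))]
    exact S.V_sq (S.U_comm hu0 x)
  have hD : ∀ x : X, x64_bb_D U x := fun x =>
    ⟨hMU.le (hsqM x), fun y => hMU.le (S.comm_M x y)⟩
  have hsqV : ∀ x : X, x * x ∈ V := by
    intro x
    by_cases hx : x ∈ Subgroup.centralizer (U : Set X)
    · exact S.U_sq (hMU.le hx)
    · exact S.D_sq_mem_V (hD x) hx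
  have hall : ∀ x : X, x ∈ U := by
    intro x
    rw [S.hUdef]
    refine ⟨hsqV x, fun y => ?_⟩
    rw [x64_bb_comm_eq_sq x y (S.V_le_center (hsqV x))]
    exact V.mul_mem (V.mul_mem (hsqV _) (V.inv_mem (hsqV x))) (V.inv_mem (hsqV y))
  exact hna (fun x y => S.hUab x (hall x) y (hall y))

end x64_bb_S

/-- 4B, branch D not<= M: some d with d^2 in U, [d,X] <= U does not centralize U  => False. -/
theorem x64_branchB {X : Type u} [Group X] [Finite X] (hX : IsPGroup 2 X)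
    (hna : ¬ ∀ x y : X, x * y = y * x)
    {G : Type v} [Group G] [Finite G] (hG : Odd (Nat.card G)) (ρ : G →* MulAut X)
    (hgen : Subgroup.closure {g : X | ∃ a : G, ∃ x : X, g = x⁻¹ * ρ a x} = ⊤)
    (V : Subgroup X) (hVdef : ∀ z : X, z ∈ V ↔ z ∈ Subgroup.center X ∧ z * z = 1)
    (hV4 : Nat.card V = 4)
    (hirr : ∀ v ∈ V, (∀ a : G, ρ a v = v) → v = 1)
    (U : Subgroup X) (hUdef : ∀ u : X, u ∈ U ↔ u * u ∈ V ∧ ∀ x : X, u * x * u⁻¹ * x⁻¹ ∈ V)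
    (hUab : ∀ u ∈ U, ∀ w ∈ U, u * w = w * u) (hUinv : ∀ u ∈ U, u * u = 1 → u ∈ V)
    (hUsq : ∀ v ∈ V, ∃ u ∈ U, u * u = v) (hU16 : Nat.card U = 16)
    (d : X) (hd2 : d * d ∈ U) (hdX : ∀ x : X, d * x * d⁻¹ * x⁻¹ ∈ U)
    (hdM : ¬ ∀ w ∈ U, w * d = d * w) : False := by
  haveI : Fact (Nat.Prime 2) := ⟨Nat.prime_two⟩
  have S : x64_bb_S ρ V U :=
    { hVdef := hVdef
      hV4 := hV4
      hUdef := hUdef
      hUab := hUab
      hUinv := hUinv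
      hinj := fun x w hw hwV hwx =>
        x64_inj hX hG ρ hgen V hVdef hV4 hirr U hUdef hUab hUinv hUsq hU16 x w hw hwV hwx
      hnorm := fun N hN h1 h2 x hx => by
        haveI := hN
        exact x64_norm hX hG ρ hgen N h1 h2 x hx
      hg5 := fun K L hK hL hKL => by
        haveI := hK
        haveI := hL
        exact x64_g5 hX K L hKL }
  exact S.false_of_D hna hU16 ⟨hd2, hdX⟩ (fun h => hdM (x64_bb_mem_M.mp h))

end Cfsg.Agent.X64
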