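import Mathlib
import Cfsg.Agent.S0093
import Cfsg.Agent.Helper4.FrattiniQuotient
import Cfsg.Agent.X64.Basic
import Cfsg.Agent.X64.Four

/-!
# S1904, piece C (helper1): `x64_crit`

`X` a finite 2-group in which every normal subgroup of exponent 2 has order at most 4, acted on by an
odd-order group `G` with `[X, G] = X`, and `G` fixing every central involution.  Then `x² ∈ Z(X)` for
all `x`, and `Z(X)` has exponent 2.  Proof via a critical subgroup `K` (landed S0093).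
-/

set_option autoImplicit false
set_option linter.style.haveILetI false

namespace Cfsg.Agent.X64

universe u v

open scoped commutatorElement

/-- pure group computation: if the commutators `g k g⁻¹ k⁻¹` (`k ∈ K`) are all central and `K` is
normal, then every commutator `x y x⁻¹ y⁻¹` centralizes `K`. -/
theorem x64_crit_comm {X : Type u} [Group X] (K : Subgroup X) [K.Normal]
    (hc : ∀ g : X, ∀ k ∈ K, g * k * g⁻¹ * k⁻¹ ∈ Subgroup.center X) (x y : X) :
    x * y * x⁻¹ * y⁻¹ ∈ Subgroup.centralizer (K : Set X) := by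
  -- conjugation by `x y` and by `y x` agree on `K`
  have key : ∀ k ∈ K, x * y * k * y⁻¹ * x⁻¹ = y * x * k * x⁻¹ * y⁻¹ := by
    intro k hk
    have ha := hc y k hk
    have hb := hc x k hk
    rw [Subgroup.mem_center_iff] at ha hb
    have h1 : y * k * y⁻¹ = (y * k * y⁻¹ * k⁻¹) * k := by group
    have h2 : x * k * x⁻¹ = (x * k * x⁻¹ * k⁻¹) * k := by group
    calc x * y * k * y⁻¹ * x⁻¹ = x * (y * k * y⁻¹) * x⁻¹ := by group
      _ = x * ((y * k * y⁻¹ * k⁻¹) * k) * x⁻¹ := by rw [← h1]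
      _ = (x * (y * k * y⁻¹ * k⁻¹)) * k * x⁻¹ := by group
      _ = ((y * k * y⁻¹ * k⁻¹) * x) * k * x⁻¹ := by rw [ha x]
      _ = (y * k * y⁻¹ * k⁻¹) * (x * k * x⁻¹) := by group
      _ = (y * k * y⁻¹ * k⁻¹) * ((x * k * x⁻¹ * k⁻¹) * k) := by rw [← h2]
      _ = ((y * k * y⁻¹ * k⁻¹) * (x * k * x⁻¹ * k⁻¹)) * k := by group
      _ = ((x * k * x⁻¹ * k⁻¹) * (y * k * y⁻¹ * k⁻¹)) * k := by rw [hb (y * k * y⁻¹ * k⁻¹)]
      _ = (x * k * x⁻¹ * k⁻¹) * (y * k * y⁻¹) := by group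
      _ = (x * k * x⁻¹ * k⁻¹) * (y * k) * y⁻¹ := by group
      _ = ((x * k * x⁻¹ * k⁻¹) * y) * k * y⁻¹ := by group
      _ = (y * (x * k * x⁻¹ * k⁻¹)) * k * y⁻¹ := by rw [hb y]
      _ = y * x * k * x⁻¹ * y⁻¹ := by group
  rw [Subgroup.mem_centralizer_iff]
  intro k hk
  -- apply `key` to `k' = (y x)⁻¹ k (y x)`
  have hk' : x⁻¹ * y⁻¹ * k * y * x ∈ K := by
    have h1 := ‹K.Normal›.conj_mem k hk (x⁻¹ * y⁻¹)
    have h2 : x⁻¹ * y⁻¹ * k * (x⁻¹ * y⁻¹)⁻¹ = x⁻¹ * y⁻¹ * k * y * x := by group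
    rw [h2] at h1
    exact h1
  have h3 := key _ hk'
  have h4 : y * x * (x⁻¹ * y⁻¹ * k * y * x) * x⁻¹ * y⁻¹ = k := by group
  rw [h4] at h3
  -- `h3 : x y (x⁻¹ y⁻¹ k y x) y⁻¹ x⁻¹ = k`
  calc k * (x * y * x⁻¹ * y⁻¹)
      = (x * y * (x⁻¹ * y⁻¹ * k * y * x) * y⁻¹ * x⁻¹) * (x * y * x⁻¹ * y⁻¹) := by rw [h3]
    _ = x * y * x⁻¹ * y⁻¹ * k := by group

/-- if `c = g h g⁻¹ h⁻¹` is central and `g * g` is central then `c * c = 1` -/
theorem x64_crit_sq {X : Type u} [Group X] (g h : X)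
    (hc : g * h * g⁻¹ * h⁻¹ ∈ Subgroup.center X) (hg : g * g ∈ Subgroup.center X) :
    (g * h * g⁻¹ * h⁻¹) * (g * h * g⁻¹ * h⁻¹) = 1 := by
  rw [Subgroup.mem_center_iff] at hc hg
  have h1 : g * h * g⁻¹ = (g * h * g⁻¹ * h⁻¹) * h := by group
  -- `g² h g⁻² = c c h`
  have h2 : g * g * h * (g * g)⁻¹ = (g * h * g⁻¹ * h⁻¹) * (g * h * g⁻¹ * h⁻¹) * h := by
    calc g * g * h * (g * g)⁻¹ = g * (g * h * g⁻¹) * g⁻¹ := by group
      _ = g * ((g * h * g⁻¹ * h⁻¹) * h) * g⁻¹ := by rw [← h1]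
      _ = (g * (g * h * g⁻¹ * h⁻¹)) * h * g⁻¹ := by group
      _ = ((g * h * g⁻¹ * h⁻¹) * g) * h * g⁻¹ := by rw [hc g]
      _ = (g * h * g⁻¹ * h⁻¹) * (g * h * g⁻¹) := by group
      _ = (g * h * g⁻¹ * h⁻¹) * ((g * h * g⁻¹ * h⁻¹) * h) := by rw [← h1]
      _ = (g * h * g⁻¹ * h⁻¹) * (g * h * g⁻¹ * h⁻¹) * h := by group
  have h3 : g * g * h * (g * g)⁻¹ = h := by
    rw [← hg h]
    group
  rw [h3] at h2
  have h4 : (g * h * g⁻¹ * h⁻¹) * (g * h * g⁻¹ * h⁻¹) * h = 1 * h := by rw [one_mul]; exact h2.symm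
  exact mul_right_cancel h4

/-- if `c = g k g⁻¹ k⁻¹` is central and `k * k` is central then `c * c = 1` -/
theorem x64_crit_sq' {X : Type u} [Group X] (g k : X)
    (hc : g * k * g⁻¹ * k⁻¹ ∈ Subgroup.center X) (hk : k * k ∈ Subgroup.center X) :
    (g * k * g⁻¹ * k⁻¹) * (g * k * g⁻¹ * k⁻¹) = 1 := by
  rw [Subgroup.mem_center_iff] at hc hk
  have h1 : g * k * g⁻¹ = (g * k * g⁻¹ * k⁻¹) * k := by group
  -- `g k² g⁻¹ = c c k²`
  have h2 : g * (k * k) * g⁻¹ = (g * k * g⁻¹ * k⁻¹) * (g * k * g⁻¹ * k⁻¹) * (k * k) := by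
    calc g * (k * k) * g⁻¹ = (g * k * g⁻¹) * (g * k * g⁻¹) := by group
      _ = ((g * k * g⁻¹ * k⁻¹) * k) * ((g * k * g⁻¹ * k⁻¹) * k) := by rw [← h1]
      _ = (g * k * g⁻¹ * k⁻¹) * (k * (g * k * g⁻¹ * k⁻¹)) * k := by group
      _ = (g * k * g⁻¹ * k⁻¹) * ((g * k * g⁻¹ * k⁻¹) * k) * k := by rw [hc k]
      _ = (g * k * g⁻¹ * k⁻¹) * (g * k * g⁻¹ * k⁻¹) * (k * k) := by group
  have h3 : g * (k * k) * g⁻¹ = k * k := by
    rw [hk g]
    group
  rw [h3] at h2
  have h4 : (g * k * g⁻¹ * k⁻¹) * (g * k * g⁻¹ * k⁻¹) * (k * k) = 1 * (k * k) := by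
    rw [one_mul]; exact h2.symm
  exact mul_right_cancel h4

/-- **piece C** of S1904 -/
theorem x64_crit {X : Type u} [Group X] [Finite X] (hX : IsPGroup 2 X)
    (hN : ∀ N : Subgroup X, N.Normal → (∀ n ∈ N, n * n = 1) → Nat.card N ≤ 4)
    {G : Type v} [Group G] [Finite G] (hG : Odd (Nat.card G)) (ρ : G →* MulAut X)
    (hgen : Subgroup.closure {g : X | ∃ a : G, ∃ x : X, g = x⁻¹ * ρ a x} = ⊤)
    (hfix : ∀ z ∈ Subgroup.center X, z * z = 1 → ∀ a : G, ρ a z = z) :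
    (∀ x : X, x * x ∈ Subgroup.center X) ∧ ∀ z ∈ Subgroup.center X, z * z = 1 := by
  classical
  haveI : Fact (Nat.Prime 2) := ⟨Nat.prime_two⟩
  -- trivial group
  by_cases htriv : ∀ x : X, x = 1
  · refine ⟨fun x => ?_, fun z _ => ?_⟩
    · rw [htriv x, mul_one]; exact Subgroup.one_mem _
    · rw [htriv z, mul_one]
  push Not at htriv
  obtain ⟨x₀, hx₀⟩ := htriv
  haveI : Nontrivial X := ⟨⟨x₀, 1, hx₀⟩⟩
  -- a central involution `v₀`
  obtain ⟨v₀, hv₀Z, hv₀ord⟩ : ∃ v₀ : X, v₀ ∈ Subgroup.center X ∧ orderOf v₀ = 2 := by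
    haveI : Nontrivial (Subgroup.center X) := hX.center_nontrivial
    have h2 : 2 ∣ Nat.card (Subgroup.center X) := by
      obtain ⟨k, hk⟩ := (hX.to_subgroup (Subgroup.center X)).exists_card_eq
      have hk0 : k ≠ 0 := by
        rintro rfl
        rw [pow_zero] at hk
        have := Finite.one_lt_card (α := Subgroup.center X)
        omega
      rw [hk]
      exact dvd_pow_self 2 hk0
    obtain ⟨z, hz⟩ := exists_prime_orderOf_dvd_card' (G := Subgroup.center X) 2 h2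
    refine ⟨(z : X), z.2, ?_⟩
    rw [← hz]
    exact Subgroup.orderOf_coe z
  have hv₀1 : v₀ ≠ 1 := by
    intro h
    rw [h, orderOf_one] at hv₀ord
    omega
  have hv₀sq : v₀ * v₀ = 1 := by
    rw [← pow_two, ← hv₀ord]
    exact pow_orderOf_eq_one v₀
  -- the critical subgroup
  obtain ⟨K, hKchar, hKfr, hKcomm, hKcent⟩ := Cfsg.Agent.S0093.result (P := X) (p := 2) hX
  haveI := hKchar
  haveI hKn : K.Normal := Subgroup.normal_of_characteristic K
  set C : Subgroup X := Subgroup.centralizer (K : Set X) with hC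
  haveI hCn : C.Normal := Subgroup.normal_centralizer
  haveI hCch : C.Characteristic := Subgroup.characteristic_centralizer
  have hCinv : ∀ a : G, ∀ b ∈ C, ρ a b ∈ C := by
    intro a b hb
    have h1 := Subgroup.characteristic_iff_map_eq.mp hCch (ρ a)
    rw [← h1]
    exact Subgroup.mem_map_of_mem _ hb
  have hCab : ∀ b ∈ C, ∀ c ∈ C, b * c = c * b := by
    intro b hb c hc
    have hbK : b ∈ K := hKcent hb
    rw [hC, Subgroup.mem_centralizer_iff] at hc
    exact hc b hbK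
  have hZC : Subgroup.center X ≤ C := Subgroup.center_le_centralizer _
  -- `E = Ω₁(C)`
  let E : Subgroup X :=
    { carrier := {z | z ∈ C ∧ z * z = 1}
      one_mem' := ⟨Subgroup.one_mem _, mul_one 1⟩
      mul_mem' := by
        rintro z w ⟨hz, hz2⟩ ⟨hw, hw2⟩
        refine ⟨Subgroup.mul_mem _ hz hw, ?_⟩
        calc z * w * (z * w) = z * (w * z) * w := by group
          _ = z * (z * w) * w := by rw [hCab w hw z hz]
          _ = (z * z) * (w * w) := by group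
          _ = 1 := by rw [hz2, hw2, mul_one]
      inv_mem' := by
        rintro z ⟨hz, hz2⟩
        refine ⟨Subgroup.inv_mem _ hz, ?_⟩
        calc z⁻¹ * z⁻¹ = (z * z)⁻¹ := by group
          _ = 1 := by rw [hz2, inv_one] }
  have hEmem : ∀ z : X, z ∈ E ↔ z ∈ C ∧ z * z = 1 := fun z => Iff.rfl
  have hEn : E.Normal := by
    constructor
    intro z hz g
    rw [hEmem] at hz ⊢
    refine ⟨hCn.conj_mem z hz.1 g, ?_⟩
    calc g * z * g⁻¹ * (g * z * g⁻¹) = g * (z * z) * g⁻¹ := by group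
      _ = 1 := by rw [hz.2]; group
  have hE4 : Nat.card E ≤ 4 := hN E hEn (fun n hn => ((hEmem n).mp hn).2)
  have hEinv : ∀ a : G, ∀ v ∈ E, ρ a v ∈ E := by
    intro a v hv
    rw [hEmem] at hv ⊢
    refine ⟨hCinv a v hv.1, ?_⟩
    rw [← map_mul, hv.2, map_one]
  have hv₀E : v₀ ∈ E := (hEmem v₀).mpr ⟨hZC hv₀Z, hv₀sq⟩
  -- `G` fixes `E`, hence `C`, pointwise
  have hEfix : ∀ a : G, ∀ w ∈ E, ρ a w = w := by
    intro a
    exact x64_four_fix hG ρ E hE4 (fun v hv => ((hEmem v).mp hv).2) a (hEinv a) v₀ hv₀E hv₀1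
      (hfix v₀ hv₀Z hv₀sq a)
  have hCfix : ∀ a : G, ∀ b ∈ C, ρ a b = b :=
    x64_omega hX hG ρ C hCab hCinv
      (fun a b hb hb2 => hEfix a b ((hEmem b).mpr ⟨hb, hb2⟩))
  have hCZ : C ≤ Subgroup.center X := x64_central ρ hgen C hCfix
  -- commutators `g k g⁻¹ k⁻¹`, `k ∈ K`, are central
  have hcK : ∀ g : X, ∀ k ∈ K, g * k * g⁻¹ * k⁻¹ ∈ Subgroup.center X := by
    intro g k hk
    apply hCZ
    have h1 : ⁅g, k⁆ ∈ ⁅(⊤ : Subgroup X), K⁆ :=
      Subgroup.commutator_mem_commutator (Subgroup.mem_top g) hk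
    rw [Subgroup.commutator_comm] at h1
    have h2 := hKcomm h1
    rw [commutatorElement_def] at h2
    exact h2.2
  -- squares of elements of `K` are central
  have hsqK : ∀ k ∈ K, k * k ∈ Subgroup.center X := by
    intro k hk
    apply hCZ
    apply hKfr
    refine ⟨(⟨k, hk⟩ : K) ^ 2, Cfsg.Agent.Helper4.pgroup_pow_mem_frattini (hX.to_subgroup K) ⟨k, hk⟩, ?_⟩
    simp [pow_two]
  -- first conclusion
  have hsq : ∀ x : X, x * x ∈ Subgroup.center X := by
    intro x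
    apply hCZ
    rw [hC, Subgroup.mem_centralizer_iff]
    intro k hk
    have hc := hcK x k hk
    have hc2 := x64_crit_sq' x k hc (hsqK k hk)
    have hcc := hc
    rw [Subgroup.mem_center_iff] at hcc
    have h1 : x * k * x⁻¹ = (x * k * x⁻¹ * k⁻¹) * k := by group
    have h2 : x * x * k * (x * x)⁻¹ = k := by
      calc x * x * k * (x * x)⁻¹ = x * (x * k * x⁻¹) * x⁻¹ := by group
        _ = x * ((x * k * x⁻¹ * k⁻¹) * k) * x⁻¹ := by rw [← h1]
        _ = (x * (x * k * x⁻¹ * k⁻¹)) * k * x⁻¹ := by group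
        _ = ((x * k * x⁻¹ * k⁻¹) * x) * k * x⁻¹ := by rw [hcc x]
        _ = (x * k * x⁻¹ * k⁻¹) * (x * k * x⁻¹) := by group
        _ = (x * k * x⁻¹ * k⁻¹) * ((x * k * x⁻¹ * k⁻¹) * k) := by rw [← h1]
        _ = ((x * k * x⁻¹ * k⁻¹) * (x * k * x⁻¹ * k⁻¹)) * k := by group
        _ = k := by rw [hc2, one_mul]
    calc k * (x * x) = (x * x * k * (x * x)⁻¹) * (x * x) := by rw [h2]
      _ = x * x * k := by group
  refine ⟨hsq, ?_⟩
  -- commutators are central involutions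
  have hcomZ : ∀ x y : X, x * y * x⁻¹ * y⁻¹ ∈ Subgroup.center X := fun x y =>
    hCZ (x64_crit_comm K hcK x y)
  have hcom2 : ∀ x y : X, (x * y * x⁻¹ * y⁻¹) * (x * y * x⁻¹ * y⁻¹) = 1 := fun x y =>
    x64_crit_sq x y (hcomZ x y) (hsq x)
  -- `V = Ω₁(Z(X))`
  let V : Subgroup X :=
    { carrier := {z | z ∈ Subgroup.center X ∧ z * z = 1}
      one_mem' := ⟨Subgroup.one_mem _, mul_one 1⟩
      mul_mem' := by
        rintro z w ⟨hz, hz2⟩ ⟨hw, hw2⟩
        refine ⟨Subgroup.mul_mem _ hz hw, ?_⟩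
        have hzc := hz
        rw [Subgroup.mem_center_iff] at hzc
        calc z * w * (z * w) = z * (w * z) * w := by group
          _ = z * (z * w) * w := by rw [hzc w]
          _ = (z * z) * (w * w) := by group
          _ = 1 := by rw [hz2, hw2, mul_one]
      inv_mem' := by
        rintro z ⟨hz, hz2⟩
        refine ⟨Subgroup.inv_mem _ hz, ?_⟩
        calc z⁻¹ * z⁻¹ = (z * z)⁻¹ := by group
          _ = 1 := by rw [hz2, inv_one] }
  have hVmem : ∀ z : X, z ∈ V ↔ z ∈ Subgroup.center X ∧ z * z = 1 := fun z => Iff.rfl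
  have hcomV : commutator X ≤ V := by
    rw [commutator_def, Subgroup.commutator_le]
    intro g₁ _ g₂ _
    rw [commutatorElement_def, hVmem]
    exact ⟨hcomZ g₁ g₂, hcom2 g₁ g₂⟩
  intro z hz
  -- `z ∈ X'` by the norm lemma
  haveI : (commutator X).Normal := by infer_instance
  have hz' : z ∈ commutator X := by
    refine x64_norm hX hG ρ hgen (commutator X) ?_ ?_ z ?_
    · intro a n hn
      have hch : (commutator X).Characteristic := by
        rw [commutator_def]; infer_instance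
      have h1 := Subgroup.characteristic_iff_map_eq.mp hch (ρ a)
      rw [← h1]
      exact Subgroup.mem_map_of_mem _ hn
    · intro x y
      have h1 : ⁅x, y⁆ ∈ commutator X := by
        rw [commutator_def]
        exact Subgroup.commutator_mem_commutator (Subgroup.mem_top x) (Subgroup.mem_top y)
      rw [commutatorElement_def] at h1
      exact h1
    · intro a
      rw [hCfix a z (hZC hz), inv_mul_cancel]
      exact Subgroup.one_mem _
  exact ((hVmem z).mp (hcomV hz')).2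

end Cfsg.Agent.X64
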