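import Mathlib
import Cfsg.Agent.X64.Basic

/-!
# S1904, piece I-a: the tower `V ≤ U` (steps 1-4 of Piece I)
-/

set_option autoImplicit false

namespace Cfsg.Agent.X64

universe u v

/-- Adjoining an involution `i` with `[i, X] ≤ V` to a central subgroup `V` of exponent 2 gives a
normal subgroup of exponent 2. -/
theorem x64_tower_adj {X : Type u} [Group X] (V : Subgroup X)
    (hVc : ∀ v ∈ V, ∀ x : X, v * x = x * v) (hV2 : ∀ v ∈ V, v * v = 1)
    (i : X) (hi : i * i = 1) (hiX : ∀ x : X, i * x * i⁻¹ * x⁻¹ ∈ V) :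
    ∃ N : Subgroup X, N.Normal ∧ (∀ n ∈ N, n * n = 1) ∧ V ≤ N ∧ i ∈ N := by
  have hiinv : i⁻¹ = i := inv_eq_of_mul_eq_one_left hi
  -- if `n * i ∈ V` then `i` commutes with `n`
  have hcomm : ∀ n : X, n * i ∈ V → i * n = n * i := by
    intro n hn
    have h1 := hVc (n * i) hn i
    -- (n * i) * i = i * (n * i)
    calc i * n = i * (n * i) * i⁻¹ := by group
      _ = (n * i) * i * i⁻¹ := by rw [← h1]
      _ = n * i := by group
  refine ⟨{ carrier := {n | n ∈ V ∨ n * i ∈ V}
            one_mem' := Or.inl V.one_mem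
            mul_mem' := ?_
            inv_mem' := ?_ }, ?_, ?_, ?_, ?_⟩
  · rintro a b (ha | ha) (hb | hb)
    · exact Or.inl (V.mul_mem ha hb)
    · right
      rw [mul_assoc]
      exact V.mul_mem ha hb
    · right
      have : a * b * i = a * i * b := by
        rw [mul_assoc, mul_assoc, ← hVc b hb i]
      rw [this]
      exact V.mul_mem ha hb
    · left
      have h1 : a * b = (a * i) * (b * i) := by
        calc a * b = a * (i * i) * b := by rw [hi, mul_one]
          _ = a * i * (i * b) := by group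
          _ = a * i * (b * i) := by rw [hcomm b hb]
      rw [h1]
      exact V.mul_mem ha hb
  · rintro a (ha | ha)
    · exact Or.inl (V.inv_mem ha)
    · right
      have h2 : i * a = a * i := hcomm a ha
      have h1 : a⁻¹ * i = (a * i)⁻¹ := by
        rw [mul_inv_rev, hiinv]
        calc a⁻¹ * i = a⁻¹ * (i * a) * a⁻¹ := by group
          _ = a⁻¹ * (a * i) * a⁻¹ := by rw [h2]
          _ = i * a⁻¹ := by group
      rw [h1]
      exact V.inv_mem ha
  · constructor
    rintro n (hn | hn) g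
    · left
      have : g * n * g⁻¹ = n := by
        rw [← hVc n hn g]; group
      rw [this]; exact hn
    · right
      -- g n g⁻¹ i = (n i) * (i g i⁻¹ g⁻¹)⁻¹ ... use centrality
      have hk := hiX g⁻¹
      rw [inv_inv] at hk
      -- hk : i * g⁻¹ * i⁻¹ * g ∈ V
      have hni : i * n = n * i := hcomm n hn
      have h1 : g * n * g⁻¹ * i = g * ((n * i) * (i * g⁻¹ * i⁻¹ * g)) * g⁻¹ := by
        have : n * i * (i * g⁻¹ * i⁻¹ * g) = n * (i * i) * g⁻¹ * i⁻¹ * g := by group
        rw [this, hi, mul_one, hiinv]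
        group
      rw [h1]
      have hmem : n * i * (i * g⁻¹ * i⁻¹ * g) ∈ V := V.mul_mem hn hk
      have : g * (n * i * (i * g⁻¹ * i⁻¹ * g)) * g⁻¹ = n * i * (i * g⁻¹ * i⁻¹ * g) := by
        rw [← hVc _ hmem g]; group
      rw [this]; exact hmem
  · rintro n (hn | hn)
    · exact hV2 n hn
    · have hni : i * n = n * i := hcomm n hn
      have := hV2 (n * i) hn
      calc n * n = n * (i * i) * n := by rw [hi, mul_one]
        _ = n * i * (i * n) := by group
        _ = n * i * (n * i) := by rw [hni]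
        _ = 1 := this
  · intro v hv
    exact Or.inl hv
  · right
    rw [hi]; exact V.one_mem

/-- **I-a (steps 1-4 of Piece I)**: either `S'(X)` holds, or `U` is abelian of order 16 with
`Ω₁(U) = V` and squaring `U → V` onto. -/
theorem x64_tower {X : Type u} [Group X] [Finite X] (hX : IsPGroup 2 X)
    (hN : ∀ N : Subgroup X, N.Normal → (∀ n ∈ N, n * n = 1) → Nat.card N ≤ 4)
    {G : Type v} [Group G] [Finite G] (hG : Odd (Nat.card G)) (ρ : G →* MulAut X)
    (V : Subgroup X) (hVdef : ∀ z : X, z ∈ V ↔ z ∈ Subgroup.center X ∧ z * z = 1)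
    (hV4 : Nat.card V = 4)
    (hirr : ∀ v ∈ V, (∀ a : G, ρ a v = v) → v = 1)
    (U : Subgroup X) (hUdef : ∀ u : X, u ∈ U ↔ u * u ∈ V ∧ ∀ x : X, u * x * u⁻¹ * x⁻¹ ∈ V) :
    ((∀ x : X, x * x ∈ Subgroup.center X) ∧ ∀ z ∈ Subgroup.center X, z * z = 1) ∨
    ((∀ u ∈ U, ∀ w ∈ U, u * w = w * u) ∧ (∀ u ∈ U, u * u = 1 → u ∈ V) ∧
      (∀ v ∈ V, ∃ u ∈ U, u * u = v) ∧ Nat.card U = 16) := by
  classical
  -- basic facts about `V`
  have hVc : ∀ v ∈ V, ∀ x : X, v * x = x * v := fun v hv x =>
    (Subgroup.mem_center_iff.mp ((hVdef v).1 hv).1 x).symm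
  have hV2 : ∀ v ∈ V, v * v = 1 := fun v hv => ((hVdef v).1 hv).2
  have hVU : V ≤ U := by
    intro v hv
    rw [hUdef]
    refine ⟨by rw [hV2 v hv]; exact V.one_mem, fun x => ?_⟩
    have : v * x * v⁻¹ * x⁻¹ = 1 := by rw [hVc v hv x]; group
    rw [this]; exact V.one_mem
  haveI hVn : V.Normal := ⟨fun v hv g => by
    have : g * v * g⁻¹ = v := by rw [← hVc v hv g]; group
    rw [this]; exact hv⟩
  have hVcen : V ≤ Subgroup.center X := fun v hv => ((hVdef v).1 hv).1
  -- `G`-invariance of `V`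
  have hVinv : ∀ a : G, ∀ v ∈ V, ρ a v ∈ V := by
    intro a v hv
    rw [hVdef]
    refine ⟨?_, by rw [← map_mul, hV2 v hv, map_one]⟩
    rw [Subgroup.mem_center_iff]
    intro x
    obtain ⟨y, rfl⟩ : ∃ y, x = ρ a y := ⟨(ρ a)⁻¹ x, (MulAut.apply_inv_self _ _ _).symm⟩
    rw [← map_mul, ← map_mul, hVc v hv]
  -- `U` is normal and `G`-invariant
  haveI hUn : U.Normal := ⟨fun u hu g => by
    rw [hUdef] at hu ⊢
    obtain ⟨hu2, huX⟩ := hu
    refine ⟨?_, fun x => ?_⟩
    · have h1 : g * u * g⁻¹ * (g * u * g⁻¹) = g * (u * u) * g⁻¹ := by group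
      have h2 : g * (u * u) * g⁻¹ = u * u := by rw [← hVc (u * u) hu2 g]; group
      rw [h1, h2]; exact hu2
    · have h1 : g * u * g⁻¹ * x * (g * u * g⁻¹)⁻¹ * x⁻¹ =
          g * (u * (g⁻¹ * x * g) * u⁻¹ * (g⁻¹ * x * g)⁻¹) * g⁻¹ := by group
      have hk := huX (g⁻¹ * x * g)
      have h2 : g * (u * (g⁻¹ * x * g) * u⁻¹ * (g⁻¹ * x * g)⁻¹) * g⁻¹ =
          u * (g⁻¹ * x * g) * u⁻¹ * (g⁻¹ * x * g)⁻¹ := by
        rw [← hVc _ hk g]; group
      rw [h1, h2]; exact hk⟩
  have hUinv : ∀ a : G, ∀ u ∈ U, ρ a u ∈ U := by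
    intro a u hu
    rw [hUdef] at hu ⊢
    obtain ⟨hu2, huX⟩ := hu
    refine ⟨by rw [← map_mul]; exact hVinv a _ hu2, fun x => ?_⟩
    obtain ⟨y, rfl⟩ : ∃ y, x = ρ a y := ⟨(ρ a)⁻¹ x, (MulAut.apply_inv_self _ _ _).symm⟩
    rw [← map_inv, ← map_inv, ← map_mul, ← map_mul, ← map_mul]
    exact hVinv a _ (huX y)
  have hCinv : ∀ a : G, ∀ c ∈ Subgroup.centralizer (U : Set X),
      ρ a c ∈ Subgroup.centralizer (U : Set X) := by
    intro a c hc
    rw [Subgroup.mem_centralizer_iff] at hc ⊢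
    intro w hw
    have hw' : ρ a⁻¹ w ∈ U := hUinv a⁻¹ w hw
    have hwe : w = ρ a (ρ a⁻¹ w) := by
      rw [map_inv]; exact (MulAut.apply_inv_self _ _ _).symm
    rw [hwe, ← map_mul, ← map_mul, hc _ hw']
  -- step 1
  have hstep1 : ∀ i ∈ U, i * i = 1 → i ∈ V := by
    intro i hiU hi
    obtain ⟨N, hNn, hN2, hVN, hiN⟩ := x64_tower_adj V hVc hV2 i hi ((hUdef i).1 hiU).2
    have hcard := hN N hNn hN2
    have hEq : V = N := Subgroup.eq_of_le_of_card_ge hVN (by rw [hV4]; exact hcard)
    rw [hEq]; exact hiN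
  -- `Y = Z(U)`
  obtain ⟨Y, hYdef⟩ : ∃ Y : Subgroup X, Y = U ⊓ Subgroup.centralizer (U : Set X) := ⟨_, rfl⟩
  have hYU : Y ≤ U := by rw [hYdef]; exact inf_le_left
  have hYcomm : ∀ y ∈ Y, ∀ w ∈ U, y * w = w * y := by
    intro y hy w hw
    rw [hYdef, Subgroup.mem_inf] at hy
    exact ((Subgroup.mem_centralizer_iff.mp hy.2) w hw).symm
  have hVY : V ≤ Y := by
    intro v hv
    rw [hYdef, Subgroup.mem_inf]
    exact ⟨hVU hv, Subgroup.mem_centralizer_iff.2 fun w _ => (hVc v hv w).symm⟩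
  have hYinv : ∀ a : G, ∀ y ∈ Y, ρ a y ∈ Y := by
    intro a y hy
    rw [hYdef, Subgroup.mem_inf] at hy ⊢
    exact ⟨hUinv a y hy.1, hCinv a y hy.2⟩
  have hYsq : ∀ y ∈ Y, y * y ∈ V := fun y hy => ((hUdef y).1 (hYU hy)).1
  by_cases hS : ∀ y ∈ Y, y * y = 1
  · -- case `Y = V`: `S'(X)`
    left
    have hYV : Y ≤ V := fun y hy => hstep1 y (hYU hy) (hS y hy)
    haveI hCn : (Subgroup.centralizer (U : Set X)).Normal := Subgroup.normal_centralizer
    have hVC : V ≤ Subgroup.centralizer (U : Set X) := by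
      intro v hv
      rw [Subgroup.mem_centralizer_iff]
      intro w _
      exact (hVc v hv w).symm
    have hCV : Subgroup.centralizer (U : Set X) = V := by
      by_contra hne
      have hlt : V < Subgroup.centralizer (U : Set X) := lt_of_le_of_ne hVC (Ne.symm hne)
      obtain ⟨s, hsC, hsV, hs2, hsX⟩ := x64_g5 (p := 2) hX V _ hlt
      rw [pow_two] at hs2
      have hsU : s ∈ U := (hUdef s).2 ⟨hs2, hsX⟩
      have hsY : s ∈ Y := by rw [hYdef, Subgroup.mem_inf]; exact ⟨hsU, hsC⟩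
      exact hsV (hYV hsY)
    -- squares centralize `U`
    have hsqC : ∀ x : X, x * x ∈ V := by
      intro x
      rw [← hCV, Subgroup.mem_centralizer_iff]
      intro w hw
      -- κ = w x w⁻¹ x⁻¹ ∈ V, x w = κ w x
      have hk := ((hUdef w).1 hw).2 x
      obtain ⟨k, hkdef⟩ : ∃ k : X, k = w * x * w⁻¹ * x⁻¹ := ⟨_, rfl⟩
      rw [← hkdef] at hk
      have hkk : k * k = 1 := hV2 k hk
      have hxw : w * x = k * (x * w) := by rw [hkdef]; group
      calc w * (x * x) = (w * x) * x := by group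
        _ = k * (x * w) * x := by rw [hxw]
        _ = k * x * (w * x) := by group
        _ = k * x * (k * (x * w)) := by rw [hxw]
        _ = k * (x * k) * (x * w) := by group
        _ = k * (k * x) * (x * w) := by rw [hVc k hk x]
        _ = (k * k) * (x * x * w) := by group
        _ = x * x * w := by rw [hkk, one_mul]
    refine ⟨fun x => hVcen (hsqC x), fun z hz => ?_⟩
    have hzc : ∀ x : X, z * x = x * z := fun x => (Subgroup.mem_center_iff.mp hz x).symm
    have hzU : z ∈ U := by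
      rw [hUdef]
      refine ⟨hsqC z, fun x => ?_⟩
      have : z * x * z⁻¹ * x⁻¹ = 1 := by rw [hzc x]; group
      rw [this]; exact V.one_mem
    have hzY : z ∈ Y := by
      rw [hYdef, Subgroup.mem_inf]
      exact ⟨hzU, Subgroup.mem_centralizer_iff.2 fun w _ => (hzc w).symm⟩
    exact hV2 z (hYV hzY)
  · -- case `S ≠ ⊥`
    right
    push Not at hS
    obtain ⟨y0, hy0, hs1⟩ := hS
    -- the subgroup of squares
    let S : Subgroup X :=
      { carrier := {s | ∃ y ∈ Y, y * y = s}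
        one_mem' := ⟨1, Y.one_mem, mul_one 1⟩
        mul_mem' := by
          rintro a b ⟨y, hy, rfl⟩ ⟨y', hy', rfl⟩
          refine ⟨y * y', Y.mul_mem hy hy', ?_⟩
          have hc : y' * y = y * y' := hYcomm y' hy' y (hYU hy)
          calc y * y' * (y * y') = y * (y' * y) * y' := by group
            _ = y * (y * y') * y' := by rw [hc]
            _ = y * y * (y' * y') := by group
        inv_mem' := by
          rintro a ⟨y, hy, rfl⟩
          exact ⟨y⁻¹, Y.inv_mem hy, by group⟩ }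
    have hSV : S ≤ V := by
      rintro s ⟨y, hy, rfl⟩
      exact hYsq y hy
    have hs0S : y0 * y0 ∈ S := ⟨y0, hy0, rfl⟩
    have hs0V : y0 * y0 ∈ V := hYsq y0 hy0
    obtain ⟨a, ha⟩ : ∃ a : G, ρ a (y0 * y0) ≠ y0 * y0 := by
      by_contra hcon
      push Not at hcon
      exact hs1 (hirr _ hs0V hcon)
    have htS : ρ a (y0 * y0) ∈ S := ⟨ρ a y0, hYinv a y0 hy0, by rw [map_mul]⟩
    have ht1 : ρ a (y0 * y0) ≠ 1 := by
      intro h
      apply hs1
      have := (ρ a).injective (h.trans (map_one (ρ a)).symm)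
      exact this
    have h3 : 2 < Nat.card S := by
      haveI : Fintype S := Fintype.ofFinite S
      rw [Nat.card_eq_fintype_card, Fintype.two_lt_card_iff]
      refine ⟨⟨1, S.one_mem⟩, ⟨y0 * y0, hs0S⟩, ⟨ρ a (y0 * y0), htS⟩, ?_, ?_, ?_⟩
      · intro h; exact hs1 (congrArg Subtype.val h).symm
      · intro h; exact ht1 (congrArg Subtype.val h).symm
      · intro h; exact ha (congrArg Subtype.val h).symm
    have hdvd : Nat.card S ∣ 4 := by
      rw [← hV4]; exact Subgroup.card_dvd_of_le hSV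
    have hS4 : Nat.card S = 4 := by
      have hle : Nat.card S ≤ 4 := Nat.le_of_dvd (by norm_num) hdvd
      interval_cases h : Nat.card S
      · omega
      · rfl
    have hSeq : S = V := Subgroup.eq_of_le_of_card_ge hSV (by rw [hV4, hS4])
    have hsq : ∀ v ∈ V, ∃ y ∈ Y, y * y = v := by
      intro v hv
      rw [← hSeq] at hv
      exact hv
    -- step 4: `U ≤ Y`
    have hUY : U ≤ Y := by
      intro u hu
      have hu2 : u * u ∈ V := ((hUdef u).1 hu).1
      obtain ⟨y, hy, hyy⟩ := hsq _ (V.inv_mem hu2)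
      have hc : y * u = u * y := hYcomm y hy u hu
      have h1 : u * y * (u * y) = 1 := by
        calc u * y * (u * y) = u * (y * u) * y := by group
          _ = u * (u * y) * y := by rw [hc]
          _ = (u * u) * (y * y) := by group
          _ = 1 := by rw [hyy]; group
      have huyV : u * y ∈ V := hstep1 _ (U.mul_mem hu (hYU hy)) h1
      have : u = (u * y) * y⁻¹ := by group
      rw [this]
      exact Y.mul_mem (hVY huyV) (Y.inv_mem hy)
    have hUab : ∀ u ∈ U, ∀ w ∈ U, u * w = w * u := fun u hu w hw => hYcomm u (hUY hu) w hw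
    refine ⟨hUab, hstep1, fun v hv => ?_, ?_⟩
    · obtain ⟨y, hy, hyy⟩ := hsq v hv
      exact ⟨y, hYU hy, hyy⟩
    · -- `|U| = 16`
      let f : ↥U →* ↥V := MonoidHom.mk' (fun u => ⟨(u : X) * (u : X), ((hUdef u).1 u.2).1⟩)
        (fun u w => by
          apply Subtype.ext
          show ((u * w : ↥U) : X) * ((u * w : ↥U) : X) = (u : X) * (u : X) * ((w : X) * (w : X))
          rw [Subgroup.coe_mul]
          have hc : (w : X) * (u : X) = (u : X) * (w : X) := hUab w w.2 u u.2
          calc (u : X) * (w : X) * ((u : X) * (w : X)) = (u : X) * ((w : X) * (u : X)) * (w : X) := by group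
            _ = (u : X) * ((u : X) * (w : X)) * (w : X) := by rw [hc]
            _ = (u : X) * (u : X) * ((w : X) * (w : X)) := by group)
      have hfsurj : Function.Surjective f := by
        rintro ⟨v, hv⟩
        obtain ⟨y, hy, hyy⟩ := hsq v hv
        exact ⟨⟨y, hYU hy⟩, Subtype.ext hyy⟩
      have hker : f.ker = V.subgroupOf U := by
        ext u
        rw [MonoidHom.mem_ker, Subgroup.mem_subgroupOf]
        constructor
        · intro h
          have h1 : (u : X) * (u : X) = 1 := congrArg Subtype.val h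
          exact hstep1 _ u.2 h1
        · intro h
          exact Subtype.ext (hV2 _ h)
      have h1 := Subgroup.card_eq_card_quotient_mul_card_subgroup f.ker
      have h2 : Nat.card (↥U ⧸ f.ker) = Nat.card ↥V :=
        Nat.card_congr (QuotientGroup.quotientKerEquivOfSurjective f hfsurj).toEquiv
      have h3' : Nat.card ↥f.ker = Nat.card ↥V := by
        rw [hker]
        exact Nat.card_congr (Subgroup.subgroupOfEquivOfLe hVU).toEquiv
      rw [h1, h2, h3', hV4]

end Cfsg.Agent.X64
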