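import Mathlib
import Cfsg.Agent.X64.Setup
import Cfsg.Agent.X64.Quot
import Cfsg.Agent.X64.Crit
import Cfsg.Agent.X64.Tower
import Cfsg.Agent.X64.BranchA
import Cfsg.Agent.X64.BranchB

/-!
# S1904: the structure theorem T1 by strong induction (helper8)

`X` nonabelian 2-group without normal elementary abelian subgroup of order 8, `G` odd acting with `[X,G] = X`:
all squares are central and the centre has exponent 2.
-/

namespace Cfsg.Agent.X64

universe u v

/-- `Ω₁(Z(X))` -/
def x64_om (X : Type u) [Group X] : Subgroup X where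
  carrier := {z | z ∈ Subgroup.center X ∧ z * z = 1}
  one_mem' := ⟨Subgroup.one_mem _, by simp⟩
  mul_mem' := by
    rintro a b ⟨ha, ha2⟩ ⟨hb, hb2⟩
    refine ⟨Subgroup.mul_mem _ ha hb, ?_⟩
    have h : b * a = a * b := Subgroup.mem_center_iff.mp ha b
    calc a * b * (a * b) = a * (b * a) * b := by group
      _ = a * (a * b) * b := by rw [h]
      _ = (a * a) * (b * b) := by group
      _ = 1 := by rw [ha2, hb2, one_mul]
  inv_mem' := by
    rintro a ⟨ha, ha2⟩
    refine ⟨Subgroup.inv_mem _ ha, ?_⟩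
    rw [← mul_inv_rev, ha2, inv_one]

theorem x64_mem_om {X : Type u} [Group X] (z : X) :
    z ∈ x64_om X ↔ z ∈ Subgroup.center X ∧ z * z = 1 := Iff.rfl

instance x64_om_normal (X : Type u) [Group X] : (x64_om X).Normal :=
  x64_V_normal (x64_om X) x64_mem_om

/-- the preimage of `Ω₁(Z(X/Ω₁(Z(X))))` -/
def x64_up (X : Type u) [Group X] : Subgroup X :=
  (x64_om (X ⧸ x64_om X)).comap (QuotientGroup.mk' (x64_om X))

theorem x64_mem_up {X : Type u} [Group X] (w : X) :
    w ∈ x64_up X ↔ w * w ∈ x64_om X ∧ ∀ x : X, w * x * w⁻¹ * x⁻¹ ∈ x64_om X := by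
  unfold x64_up
  rw [Subgroup.mem_comap, x64_mem_om, QuotientGroup.mk'_apply, x64_mk_mem_center,
    ← QuotientGroup.mk_mul, QuotientGroup.eq_one_iff]
  exact and_comm

/-- two distinct nontrivial elements of a subgroup of exponent 2 force order at least 4 -/
theorem x64_card_ge_four {X : Type u} [Group X] [Finite X] (V : Subgroup X)
    (hV2 : ∀ v ∈ V, v * v = 1) (p q : X) (hp : p ∈ V) (hq : q ∈ V)
    (hp1 : p ≠ 1) (hq1 : q ≠ 1) (hpq : p ≠ q) : 4 ≤ Nat.card V := by
  classical
  have hpq1 : p * q ≠ 1 := by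
    intro h
    have : p * q = p * p := by rw [h, hV2 p hp]
    exact hpq (mul_left_cancel this).symm
  have hpqp : p * q ≠ p := by
    intro h
    exact hq1 (mul_left_cancel (a := p) (by rw [h, mul_one]))
  have hpqq : p * q ≠ q := by
    intro h
    exact hp1 (mul_right_cancel (b := q) (by rw [h, one_mul]))
  have hnd : ([1, p, q, p * q] : List X).Nodup := by
    simp only [List.nodup_cons, List.mem_cons, List.not_mem_nil, or_false, not_or,
      List.nodup_nil, and_true, not_false_eq_true]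
    refine ⟨⟨?_, ?_, ?_⟩, ⟨?_, ?_⟩, ?_⟩
    · exact fun h => hp1 h.symm
    · exact fun h => hq1 h.symm
    · exact fun h => hpq1 h.symm
    · exact hpq
    · exact fun h => hpqp h.symm
    · exact fun h => hpqq h.symm
  haveI : Fintype X := Fintype.ofFinite X
  have hsub : ([1, p, q, p * q] : List X).toFinset ⊆ (V : Set X).toFinset := by
    intro z hz
    simp only [List.toFinset_cons, List.toFinset_nil, insert_empty_eq, Finset.mem_insert,
      Finset.mem_singleton] at hz
    rw [Set.mem_toFinset]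
    rcases hz with rfl | rfl | rfl | rfl
    · exact V.one_mem
    · exact hp
    · exact hq
    · exact V.mul_mem hp hq
  have hc := Finset.card_le_card hsub
  rw [List.toFinset_card_of_nodup hnd] at hc
  have hV : Nat.card V = ((V : Set X).toFinset).card := by
    rw [Set.toFinset_card, Nat.card_eq_fintype_card]
    rfl
  simp only [List.length_cons, List.length_nil] at hc
  omega

/-- **T1.** -/
theorem x64_t1 {G : Type v} [Group G] [Finite G] (hG : Odd (Nat.card G)) :
    ∀ (n : ℕ) (X : Type u) [Group X] [Finite X], Nat.card X = n → IsPGroup 2 X →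
      (¬ ∀ x y : X, x * y = y * x) →
      (∀ N : Subgroup X, N.Normal → (∀ n ∈ N, n * n = 1) → Nat.card N ≤ 4) →
      ∀ ρ : G →* MulAut X, Subgroup.closure {g : X | ∃ a : G, ∃ x : X, g = x⁻¹ * ρ a x} = ⊤ →
      (∀ x : X, x * x ∈ Subgroup.center X) ∧ ∀ z ∈ Subgroup.center X, z * z = 1 := by
  intro n
  induction n using Nat.strong_induction_on with
  | _ n ih =>
    intro X _ _ hcard hX hna hN ρ hgen
    by_cases hfix : ∀ z ∈ Subgroup.center X, z * z = 1 → ∀ a : G, ρ a z = z
    · exact x64_crit hX hN hG ρ hgen hfix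
    · push Not at hfix
      obtain ⟨z₀, hz₀c, hz₀2, a₀, ha₀⟩ := hfix
      have hVdef : ∀ z : X, z ∈ x64_om X ↔ z ∈ Subgroup.center X ∧ z * z = 1 := x64_mem_om
      have hUdef : ∀ w : X, w ∈ x64_up X ↔
          w * w ∈ x64_om X ∧ ∀ x : X, w * x * w⁻¹ * x⁻¹ ∈ x64_om X := x64_mem_up
      have hV2 : ∀ v ∈ x64_om X, v * v = 1 := fun v hv => ((hVdef v).mp hv).2
      have hVinv : ∀ a : G, ∀ v ∈ x64_om X, ρ a v ∈ x64_om X :=
        fun a v hv => x64_V_inv ρ (x64_om X) hVdef a hv
      have hVle4 : Nat.card (x64_om X) ≤ 4 := hN _ inferInstance hV2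
      have hz₀V : z₀ ∈ x64_om X := (hVdef z₀).mpr ⟨hz₀c, hz₀2⟩
      have hz₁V : ρ a₀ z₀ ∈ x64_om X := hVinv a₀ z₀ hz₀V
      have hz₀1 : z₀ ≠ 1 := by
        intro h
        apply ha₀
        rw [h, map_one]
      have hz₁1 : ρ a₀ z₀ ≠ 1 := by
        intro h
        apply hz₀1
        apply (ρ a₀).injective
        rw [h, map_one]
      have hV4 : Nat.card (x64_om X) = 4 :=
        le_antisymm hVle4
          (x64_card_ge_four _ hV2 z₀ (ρ a₀ z₀) hz₀V hz₁V hz₀1 hz₁1 (fun h => ha₀ h.symm))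
      have hirr : ∀ v ∈ x64_om X, (∀ a : G, ρ a v = v) → v = 1 := by
        intro v hv hfixv
        by_contra hv1
        exact ha₀ (x64_four_fix hG ρ _ hVle4 hV2 a₀ (hVinv a₀) v hv hv1 (hfixv a₀) z₀ hz₀V)
      rcases x64_tower hX hN hG ρ (x64_om X) hVdef hV4 hirr (x64_up X) hUdef with
        hS | ⟨hUab, hUinv, hUsq, hU16⟩
      · exact hS
      · exfalso
        by_cases hDM : ∀ d : X, d * d ∈ x64_up X → (∀ x : X, d * x * d⁻¹ * x⁻¹ ∈ x64_up X) →
            ∀ w ∈ x64_up X, w * d = d * w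
        · apply x64_branchA hX hna hG ρ (x64_om X) hVdef hV4 hirr (x64_up X) hUdef hUinv hU16 hDM
          intro hNQ hnaQ
          have hVne : x64_om X ≠ ⊥ := by
            intro h
            rw [h, Subgroup.card_bot] at hV4
            omega
          exact ih (Nat.card (X ⧸ x64_om X)) (hcard ▸ x64_quot_card_lt (x64_om X) hVne)
            (X ⧸ x64_om X) rfl (hX.to_quotient (x64_om X)) hnaQ hNQ
            (x64_quotAct ρ (x64_om X) hVinv) (x64_quot_gen ρ hgen (x64_om X) hVinv)
        · push Not at hDM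
          obtain ⟨d, hd2, hdX, w, hw, hwd⟩ := hDM
          exact x64_branchB hX hna hG ρ hgen (x64_om X) hVdef hV4 hirr (x64_up X) hUdef hUab hUinv
            hUsq hU16 d hd2 hdX (fun h => hwd (h w hw))

end Cfsg.Agent.X64
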