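import Mathlib
import Cfsg.Prelude.Def_Transfer
import Cfsg.Agent.X64.Basic
import Cfsg.Agent.Helper3.ExtraRank
import Cfsg.Agent.S0016

/-!
# S1904, piece E (helper4): the case `|Z(X)| = 2`

`X` a nonabelian finite `2`-group with all squares central, centre of order `2`, in which every
normal subgroup of exponent `2` has order at most `4`, and with an odd group `G` acting with
`[X, G] = X`: then `X` is the quaternion group of order `8` or extraspecial of order `32` with
exactly `11` involutions.
-/

set_option autoImplicit false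
set_option linter.style.haveILetI false

namespace Cfsg.Agent.X64

universe u v

open scoped commutatorElement
open Cfsg.Agent.Helper3.Extra

/-- squares central and centre of order `2`: the class of the extraspecial `2`-groups -/
theorem x64_extra_inClass {X : Type u} [Group X] (hsq : ∀ x : X, x * x ∈ Subgroup.center X)
    (hZ : Nat.card (Subgroup.center X) = 2) : InClass 2 X := by
  refine ⟨hZ, ?_, fun x => by rw [sq]; exact hsq x⟩
  intro x y
  have h1 : y * (x * x)⁻¹ = (x * x)⁻¹ * y := by
    have h := (Subgroup.mem_center_iff.mp (hsq x)) y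
    calc y * (x * x)⁻¹ = (x * x)⁻¹ * ((x * x) * y) * (x * x)⁻¹ := by group
      _ = (x * x)⁻¹ * (y * (x * x)) * (x * x)⁻¹ := by rw [h]
      _ = (x * x)⁻¹ * y := by group
  have h2 : ⁅x, y⁆ = (x * y * (x * y)) * (x * x)⁻¹ * (y * y)⁻¹ := by
    rw [commutatorElement_def]
    symm
    calc (x * y * (x * y)) * (x * x)⁻¹ * (y * y)⁻¹
        = x * y * x * (y * (x * x)⁻¹) * (y * y)⁻¹ := by group
      _ = x * y * x * ((x * x)⁻¹ * y) * (y * y)⁻¹ := by rw [h1]
      _ = x * y * x⁻¹ * y⁻¹ := by group
  rw [h2]
  exact Subgroup.mul_mem _ (Subgroup.mul_mem _ (hsq _) (Subgroup.inv_mem _ (hsq _)))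
    (Subgroup.inv_mem _ (hsq _))

/-- an elementary abelian subgroup has order at most `4` -/
theorem x64_extra_elemAb_le {X : Type u} [Group X] [Finite X] (hC : InClass 2 X)
    (hN : ∀ N : Subgroup X, N.Normal → (∀ n ∈ N, n * n = 1) → Nat.card N ≤ 4)
    (A : Subgroup X) (hA : Cfsg.IsElementaryAbelian 2 A) : Nat.card A ≤ 4 := by
  have hmem : ∀ x : X, x ∈ A ⊔ Subgroup.center X ↔ ∃ a ∈ A, ∃ w ∈ Subgroup.center X, a * w = x := by
    intro x
    rw [← SetLike.mem_coe, Subgroup.mul_normal, Set.mem_mul]
    rfl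
  have hcomm : ∀ a ∈ A, ∀ b ∈ A, a * b = b * a := by
    intro a ha b hb
    have := hA.1.is_comm.comm ⟨a, ha⟩ ⟨b, hb⟩
    exact congrArg Subtype.val this
  have hexp : ∀ n ∈ A ⊔ Subgroup.center X, n * n = 1 := by
    intro n hn
    obtain ⟨a, ha, w, hw, rfl⟩ := (hmem n).mp hn
    have h1 : a * a = 1 := by rw [← sq]; exact hA.2 a ha
    have h2 : w * w = 1 := by rw [← sq]; exact sq_eq_one_of_mem_center hC hw
    have h3 : w * a = a * w := (Subgroup.mem_center_iff.mp hw) a |>.symm
    calc a * w * (a * w) = a * (w * a) * w := by group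
      _ = a * (a * w) * w := by rw [h3]
      _ = (a * a) * (w * w) := by group
      _ = 1 := by rw [h1, h2, one_mul]
  have hnorm : (A ⊔ Subgroup.center X).Normal := by
    constructor
    intro n hn g
    obtain ⟨a, ha, w, hw, rfl⟩ := (hmem n).mp hn
    rw [hmem]
    refine ⟨a, ha, ⁅a⁻¹, g⁆ * w, Subgroup.mul_mem _ (hC.comm_mem _ _) hw, ?_⟩
    rw [commutatorElement_def]
    have h3 : ∀ y : X, w * y = y * w := fun y => (Subgroup.mem_center_iff.mp hw) y |>.symm
    calc a * (a⁻¹ * g * a⁻¹⁻¹ * g⁻¹ * w) = g * a * g⁻¹ * w := by group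
      _ = g * a * (w * g⁻¹) := by rw [h3 g⁻¹]; group
      _ = g * (a * w) * g⁻¹ := by group
  calc Nat.card A ≤ Nat.card (A ⊔ Subgroup.center X : Subgroup X) :=
        Subgroup.card_le_of_le le_sup_left
    _ ≤ 4 := hN _ hnorm hexp

/-- solutions of `x ^ 2 = 1` against involutions -/
theorem x64_extra_inv2 {X : Type u} [Group X] [Finite X] :
    inv2 X = Nat.card {x : X // orderOf x = 2} + 1 := by
  classical
  have : Fact (Nat.Prime 2) := ⟨Nat.prime_two⟩
  unfold inv2
  have e : {x : X // x ^ 2 = 1} ≃ Option {x : X // orderOf x = 2} :=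
    { toFun := fun x => if h : (x : X) = 1 then none else
        some ⟨x, orderOf_eq_prime x.2 h⟩
      invFun := fun o => match o with
        | none => ⟨1, one_pow 2⟩
        | some y => ⟨y, by have h := pow_orderOf_eq_one (y : X); rwa [y.2] at h⟩
      left_inv := by
        intro x
        by_cases h : (x : X) = 1
        · simp only [h, dite_true]
          exact Subtype.ext h.symm
        · simp only [h, dite_false]
      right_inv := by
        intro o
        cases o with
        | none => simp
        | some y =>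
          have hy : (y : X) ≠ 1 := by
            intro h
            have := y.2
            rw [h, orderOf_one] at this
            omega
          simp [hy] }
  rw [Nat.card_congr e, Finite.card_option]

/-- The case `|X| = 8` with six solutions of `x ^ 2 = 1` (the dihedral group) does not occur. -/
theorem x64_extra_no_dihedral {X : Type u} [Group X] [Finite X] (hX : IsPGroup 2 X)
    {G : Type v} [Group G] [Finite G] (hG : Odd (Nat.card G)) (ρ : G →* MulAut X)
    (hgen : Subgroup.closure {g : X | ∃ a : G, ∃ x : X, g = x⁻¹ * ρ a x} = ⊤)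
    (hC : InClass 2 X) (hcard : Nat.card X = 8) (hinv : inv2 X = 6) : False := by
  classical
  -- the elements with `x ^ 2 ≠ 1`
  have hO : Nat.card {x : X // ¬ x ^ 2 = 1} = 2 := by
    have h1 : Nat.card {x : X // x ^ 2 = 1} + Nat.card {x : X // ¬ x ^ 2 = 1} = Nat.card X := by
      rw [← Nat.card_sum]
      exact Nat.card_congr (Equiv.sumCompl _)
    unfold inv2 at hinv
    omega
  have : Fintype {x : X // ¬ x ^ 2 = 1} := Fintype.ofFinite _
  have hO' : Fintype.card {x : X // ¬ x ^ 2 = 1} = 2 := by rw [← Nat.card_eq_fintype_card]; exact hO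
  obtain ⟨c⟩ : Nonempty {x : X // ¬ x ^ 2 = 1} := by
    rw [← Fintype.card_pos_iff, hO']; norm_num
  have hc2 : ¬ (c : X) ^ 2 = 1 := c.2
  have hci2 : ¬ ((c : X)⁻¹) ^ 2 = 1 := by
    rw [inv_pow, inv_eq_one]; exact hc2
  have hcne : (c : X)⁻¹ ≠ c := by
    intro h
    apply hc2
    rw [sq]
    calc (c : X) * c = (c : X)⁻¹ * c := by rw [h]
      _ = 1 := inv_mul_cancel _
  have hall : ∀ x : X, ¬ x ^ 2 = 1 → x = c ∨ x = (c : X)⁻¹ := by
    intro x hx
    by_contra hne
    push Not at hne
    have h3 : ({c, ⟨(c : X)⁻¹, hci2⟩, ⟨x, hx⟩} : Finset {x : X // ¬ x ^ 2 = 1}).card = 3 := by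
      rw [Finset.card_insert_of_notMem, Finset.card_insert_of_notMem, Finset.card_singleton]
      · simp only [Finset.mem_singleton, Subtype.mk.injEq]
        exact fun h => hne.2 h.symm
      · simp only [Finset.mem_insert, Finset.mem_singleton, Subtype.ext_iff]
        rintro (h | h)
        · exact hcne h.symm
        · exact hne.1 h.symm
    have := Finset.card_le_univ ({c, ⟨(c : X)⁻¹, hci2⟩, ⟨x, hx⟩} : Finset {x : X // ¬ x ^ 2 = 1})
    omega
  -- `c` is fixed by `G` modulo the centre
  have hfix : ∀ a : G, (c : X)⁻¹ * ρ a c ∈ Subgroup.center X := by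
    intro a
    have h1 : ¬ (ρ a (c : X)) ^ 2 = 1 := by
      rw [← map_pow]
      intro h
      exact hc2 ((ρ a).injective (by rw [h, map_one]))
    rcases hall _ h1 with h | h
    · rw [h, inv_mul_cancel]; exact Subgroup.one_mem _
    · rw [h]
      have := hC.pow_mem (c : X)
      rw [sq] at this
      have h2 := Subgroup.inv_mem _ this
      rwa [mul_inv_rev] at h2
  have hcen : (c : X) ∈ Subgroup.center X := by
    refine x64_norm hX hG ρ hgen (Subgroup.center X) ?_ ?_ (c : X) hfix
    · intro a n hn
      rw [Subgroup.mem_center_iff] at hn ⊢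
      intro g
      have := hn ((ρ a).symm g)
      have h2 := congrArg (ρ a) this
      simpa using h2
    · intro x y
      have := hC.comm_mem x y
      rwa [commutatorElement_def] at this
  exact hc2 (sq_eq_one_of_mem_center hC hcen)

/-- The case `|X| = 8` with two solutions of `x ^ 2 = 1`: the quaternion group. -/
theorem x64_extra_quaternion {X : Type u} [Group X] [Finite X] (hX : IsPGroup 2 X)
    (hna : ¬ IsMulCommutative X) (hcard : Nat.card X = 8) (hinv : inv2 X = 2) :
    Nonempty (X ≃* QuaternionGroup 2) := by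
  classical
  have : Fact (Nat.Prime 2) := ⟨Nat.prime_two⟩
  have : Fintype {x : X // x ^ 2 = 1} := Fintype.ofFinite _
  have hO' : Fintype.card {x : X // x ^ 2 = 1} = 2 := by
    rw [← Nat.card_eq_fintype_card]; exact hinv
  -- two elements of order dividing 2 different from 1 coincide
  have huniq : ∀ h k : X, h ^ 2 = 1 → k ^ 2 = 1 → h ≠ 1 → k ≠ 1 → h = k := by
    intro h k hh hk hh1 hk1
    by_contra hne
    have h3 : ({⟨1, one_pow 2⟩, ⟨h, hh⟩, ⟨k, hk⟩} : Finset {x : X // x ^ 2 = 1}).card = 3 := by
      rw [Finset.card_insert_of_notMem, Finset.card_insert_of_notMem, Finset.card_singleton]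
      · simp only [Finset.mem_singleton, Subtype.mk.injEq]
        exact hne
      · simp only [Finset.mem_insert, Finset.mem_singleton, Subtype.mk.injEq]
        rintro (h' | h')
        · exact hh1 h'.symm
        · exact hk1 h'.symm
    have := Finset.card_le_univ ({⟨1, one_pow 2⟩, ⟨h, hh⟩, ⟨k, hk⟩} : Finset {x : X // x ^ 2 = 1})
    omega
  have hgenH : ∀ H : Subgroup X, Nat.card H = 2 → ∃ h : X, h ^ 2 = 1 ∧ h ≠ 1 ∧ H = Subgroup.zpowers h := by
    intro H hH
    have hne : H ≠ ⊥ := by
      intro h
      rw [h, Subgroup.card_bot] at hH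
      omega
    obtain ⟨h, hh1⟩ := (Subgroup.ne_bot_iff_exists_ne_one.mp hne)
    have hh2 : (h : X) ^ 2 = 1 := by
      have h0 : h ^ Nat.card H = 1 := pow_card_eq_one'
      rw [hH] at h0
      have := congrArg Subtype.val h0
      simpa using this
    have hh1' : (h : X) ≠ 1 := fun h' => hh1 (Subtype.ext h')
    refine ⟨h, hh2, hh1', ?_⟩
    symm
    apply Subgroup.eq_of_le_of_card_ge
    · rw [Subgroup.zpowers_le]; exact h.2
    · rw [Nat.card_zpowers, orderOf_eq_prime hh2 hh1', hH]
  have hU : ∀ H K : Subgroup X, Nat.card H = 2 → Nat.card K = 2 → H = K := by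
    intro H K hH hK
    obtain ⟨h, hh2, hh1, rfl⟩ := hgenH H hH
    obtain ⟨k, hk2, hk1, rfl⟩ := hgenH K hK
    rw [huniq h k hh2 hk2 hh1 hk1]
  rcases Cfsg.Agent.S0016.result 2 hX hU with hcyc | ⟨_, n, ⟨e⟩⟩
  · exact absurd (IsCyclic.isMulCommutative) hna
  · have hn : 2 ^ n = 2 := by
      have h1 : Nat.card X = Nat.card (QuaternionGroup (2 ^ n)) := Nat.card_congr e.toEquiv
      have : NeZero (2 ^ n) := ⟨by positivity⟩
      rw [hcard, Nat.card_eq_fintype_card, QuaternionGroup.card] at h1
      omega
    rw [hn] at e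
    exact ⟨e⟩

/-- **piece E** -/
theorem x64_extra {X : Type u} [Group X] [Finite X] (hX : IsPGroup 2 X)
    (hna : ¬ IsMulCommutative X)
    (hN : ∀ N : Subgroup X, N.Normal → (∀ n ∈ N, n * n = 1) → Nat.card N ≤ 4)
    {G : Type v} [Group G] [Finite G] (hG : Odd (Nat.card G)) (ρ : G →* MulAut X)
    (hgen : Subgroup.closure {g : X | ∃ a : G, ∃ x : X, g = x⁻¹ * ρ a x} = ⊤)
    (hsq : ∀ x : X, x * x ∈ Subgroup.center X)
    (hZ : Nat.card (Subgroup.center X) = 2) :
    Nonempty (X ≃* QuaternionGroup 2) ∨
      (Cfsg.IsExtraspecial 2 X ∧ Nat.card X = 32 ∧ Nat.card {x : X // orderOf x = 2} = 11) := by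
  have : Fact (Nat.Prime 2) := ⟨Nat.prime_two⟩
  have hC : InClass 2 X := x64_extra_inClass hsq hZ
  -- `X` has more than two elements
  have h2lt : 2 < Nat.card X := by
    rcases (hC.two_le_card).eq_or_lt with h2 | h2
    · exfalso
      apply hna
      have htop : Subgroup.center X = ⊤ :=
        Subgroup.eq_top_of_card_eq _ (by rw [hZ, ← h2])
      constructor; constructor
      intro a b
      have : a ∈ Subgroup.center X := by rw [htop]; exact Subgroup.mem_top a
      exact ((Subgroup.mem_center_iff.mp this) b).symm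
    · exact h2
  rcases plus_or_minus _ X hC rfl with hP | hM
  · -- plus type
    obtain ⟨m, hm1, _, A, hA, hAc⟩ := hC.rank_plus hP
    obtain ⟨m', hm1', hm2'⟩ := hP
    have hmm : m' = m := by
      have := hm1'.symm.trans hm1
      have := Nat.pow_right_injective (le_refl 2) this
      omega
    subst hmm
    have hA4 := x64_extra_elemAb_le hC hN A hA
    rw [hAc] at hA4
    have hm : m' ≤ 1 := by
      by_contra h
      push Not at h
      have : 2 ^ 3 ≤ 2 ^ (m' + 1) := Nat.pow_le_pow_right (by norm_num) (by omega)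
      omega
    interval_cases m'
    · rw [hm1'] at h2lt; norm_num at h2lt
    · exfalso
      exact x64_extra_no_dihedral hX hG ρ hgen hC (by rw [hm1']; norm_num) (by rw [hm2']; norm_num)
  · -- minus type
    obtain ⟨m, hm0, hm1, _, A, hA, hAc⟩ := hC.rank_minus hM
    obtain ⟨m', hm0', hm1', hm2'⟩ := hM
    have hmm : m' = m := by
      have := hm1'.symm.trans hm1
      have := Nat.pow_right_injective (le_refl 2) this
      omega
    subst hmm
    have hA4 := x64_extra_elemAb_le hC hN A hA
    rw [hAc] at hA4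
    have hm : m' ≤ 2 := by
      by_contra h
      push Not at h
      have : 2 ^ 3 ≤ 2 ^ m' := Nat.pow_le_pow_right (by norm_num) (by omega)
      omega
    interval_cases m'
    · left
      exact x64_extra_quaternion hX hna (by rw [hm1']; norm_num) (by norm_num at hm2'; omega)
    · right
      refine ⟨hC.isExtraspecial h2lt, by rw [hm1']; norm_num, ?_⟩
      have := x64_extra_inv2 (X := X)
      norm_num at hm2'
      omega

end Cfsg.Agent.X64
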