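import Mathlib
import Cfsg.Prelude.Def_Transfer
import Cfsg.Agent.Lead.CW2
import Cfsg.Agent.Helper4.FrattiniQuotient
import Cfsg.Agent.Helper5.FrattiniLe
import Cfsg.Agent.X64.Basic
import Cfsg.Agent.X64.Quot
import Cfsg.Agent.X64.Four
import Cfsg.Agent.X64.Ab

/-!
# S1904, piece F: the case `|Z(X)| = 4` of `T2` (`x64_spec`)

`X` a nonabelian `2`-group with `x² ∈ Z(X)` for all `x`, `Z(X)` of exponent 2 and order 4, every normal
subgroup of exponent 2 of order at most 4, acted on by a group `G` of odd order with `[X, G] = X`.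
Then `X` is special of order 64 with exactly three involutions, all central.
-/

set_option autoImplicit false

namespace Cfsg.Agent.X64

universe u v

open scoped commutatorElement

/-- The action of `G` on a group `W` given by a homomorphism `G →* MulAut W`. -/
@[reducible] def x64_specAct {W : Type u} [Group W] {G : Type v} [Group G] (σ : G →* MulAut W) :
    MulAction G W where
  smul a w := σ a w
  one_smul w := by
    show σ 1 w = w
    rw [map_one]
    rfl
  mul_smul a b w := by
    show σ (a * b) w = σ a (σ b w)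
    rw [map_mul]
    rfl

/-- The action of `G` on the non-identity elements of `W`. -/
@[reducible] def x64_specActNe {W : Type u} [Group W] {G : Type v} [Group G] (σ : G →* MulAut W) :
    MulAction G {w : W // w ≠ 1} where
  smul a s := ⟨σ a s.1, fun h => s.2 ((map_eq_one_iff (σ a) (σ a).injective).1 h)⟩
  one_smul s := by
    apply Subtype.ext
    show σ 1 s.1 = s.1
    rw [map_one]
    rfl
  mul_smul a b s := by
    apply Subtype.ext
    show σ (a * b) s.1 = σ a (σ b s.1)
    rw [map_mul]
    rfl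

theorem x64_spec_card_ne_one (W : Type u) [Group W] [Finite W] :
    Nat.card {w : W // w ≠ 1} = Nat.card W - 1 := by
  classical
  letI : Fintype W := Fintype.ofFinite W
  rw [Nat.card_eq_fintype_card, Nat.card_eq_fintype_card]
  rw [Fintype.card_subtype_compl (fun w : W => w = 1), Fintype.card_subtype_eq]

/-- An equivariant map from a transitive `G`-set with 7 points into an invariant set with at most 3
points has `G`-fixed values. -/
theorem x64_spec_fix {G : Type v} [Group G] [Finite G] {S : Type u} {T : Type u}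
    [MulAction G S] [MulAction G T] [Finite S] (f : S → T)
    (hf : ∀ (a : G) (s : S), f (a • s) = a • f s)
    (htrans : ∀ s s' : S, ∃ a : G, a • s = s') (hS : Nat.card S = 7)
    (A : Set T) (hAfin : A.Finite) (hA : A.ncard ≤ 3)
    (hAinv : ∀ (a : G) (t : T), t ∈ A → a • t ∈ A)
    (s : S) (hs : f s ∈ A) (a : G) : a • f s = f s := by
  have hle : MulAction.stabilizer G s ≤ MulAction.stabilizer G (f s) := by
    intro g hg
    rw [MulAction.mem_stabilizer_iff] at hg ⊢
    rw [← hf, hg]
  have hdvd : (MulAction.stabilizer G (f s)).index ∣ (MulAction.stabilizer G s).index :=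
    Subgroup.index_dvd_of_le hle
  have h7 : (MulAction.stabilizer G s).index = 7 := by
    rw [MulAction.index_stabilizer]
    have hu : MulAction.orbit G s = Set.univ := by
      ext s'
      simp only [Set.mem_univ, iff_true]
      exact htrans s s'
    rw [hu, Set.ncard_univ, hS]
  have h3 : (MulAction.stabilizer G (f s)).index ≤ 3 := by
    rw [MulAction.index_stabilizer]
    refine le_trans (Set.ncard_le_ncard ?_ hAfin) hA
    rintro _ ⟨g, rfl⟩
    exact hAinv g _ hs
  have h1 : (MulAction.stabilizer G (f s)).index = 1 := by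
    rw [h7] at hdvd
    rcases (Nat.dvd_prime (by norm_num : Nat.Prime 7)).1 hdvd with h | h
    · exact h
    · omega
  have htop : MulAction.stabilizer G (f s) = ⊤ := Subgroup.index_eq_one.1 h1
  have hmem : a ∈ MulAction.stabilizer G (f s) := by
    rw [htop]
    trivial
  exact MulAction.mem_stabilizer_iff.1 hmem

/-- If every commutator of `X` is `1` or `t` (under the hypotheses of `x64_spec`), then `X` is abelian. -/
theorem x64_spec_two {X : Type u} [Group X] [Finite X] (hX : IsPGroup 2 X)
    {G : Type v} [Group G] [Finite G] (hG : Odd (Nat.card G)) (ρ : G →* MulAut X)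
    (hgen : Subgroup.closure {g : X | ∃ a : G, ∃ x : X, g = x⁻¹ * ρ a x} = ⊤)
    (hcomm : ∀ x y : X, x * y * x⁻¹ * y⁻¹ ∈ Subgroup.center X)
    (hZ2 : ∀ z ∈ Subgroup.center X, z * z = 1)
    (hZ : Nat.card (Subgroup.center X) = 4)
    (t : X) (hct : ∀ x y : X, x * y * x⁻¹ * y⁻¹ = 1 ∨ x * y * x⁻¹ * y⁻¹ = t) :
    ∀ x y : X, x * y = y * x := by
  by_contra hna
  push Not at hna
  obtain ⟨x₀, y₀, hxy⟩ := hna
  have hc1 : x₀ * y₀ * x₀⁻¹ * y₀⁻¹ ≠ 1 := by
    intro h
    apply hxy
    calc x₀ * y₀ = (x₀ * y₀ * x₀⁻¹ * y₀⁻¹) * (y₀ * x₀) := by group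
      _ = y₀ * x₀ := by rw [h, one_mul]
  have hct0 : x₀ * y₀ * x₀⁻¹ * y₀⁻¹ = t := (hct x₀ y₀).resolve_left hc1
  have ht1 : t ≠ 1 := hct0 ▸ hc1
  have htZ : t ∈ Subgroup.center X := hct0 ▸ hcomm x₀ y₀
  have htt : t * t = 1 := hZ2 t htZ
  have htc : ∀ g : X, g * t = t * g := Subgroup.mem_center_iff.1 htZ
  have hfix : ∀ a : G, ρ a t = t := by
    intro a
    have h1 : ρ a t = ρ a x₀ * ρ a y₀ * (ρ a x₀)⁻¹ * (ρ a y₀)⁻¹ := by
      rw [← hct0]
      simp only [map_mul, map_inv]
    rcases hct (ρ a x₀) (ρ a y₀) with h | h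
    · exfalso
      rw [h] at h1
      exact ht1 ((map_eq_one_iff (ρ a) (ρ a).injective).1 h1)
    · rw [h1, h]
  -- the subgroup `{1, t}`
  let N : Subgroup X :=
    { carrier := {n | n = 1 ∨ n = t}
      mul_mem' := by
        rintro a b (rfl | rfl) (rfl | rfl)
        · left; exact one_mul 1
        · right; exact one_mul _
        · right; exact mul_one _
        · left; exact htt
      one_mem' := Or.inl rfl
      inv_mem' := by
        rintro a (rfl | rfl)
        · left; exact inv_one
        · right; exact inv_eq_of_mul_eq_one_left htt }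
  have hNmem : ∀ n : X, n ∈ N ↔ n = 1 ∨ n = t := fun n => Iff.rfl
  haveI hNn : N.Normal := by
    refine ⟨fun n hn g => ?_⟩
    have hnc : g * n = n * g := by
      rcases (hNmem n).1 hn with rfl | rfl
      · rw [mul_one, one_mul]
      · exact htc g
    rw [hnc, mul_inv_cancel_right]
    exact hn
  have hNinv : ∀ a : G, ∀ n ∈ N, ρ a n ∈ N := by
    intro a n hn
    rcases (hNmem n).1 hn with rfl | rfl
    · rw [map_one]; exact N.one_mem
    · rw [hfix a]; exact hn
  have hab : ∀ x y : X, x * y * x⁻¹ * y⁻¹ ∈ N := fun x y => (hNmem _).2 (hct x y)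
  have hZinv : ∀ a : G, ∀ v ∈ Subgroup.center X, ρ a v ∈ Subgroup.center X := by
    intro a v hv
    rw [Subgroup.mem_center_iff] at hv ⊢
    intro g
    have h := hv ((ρ a).symm g)
    have h2 := congrArg (ρ a) h
    rw [map_mul, map_mul, MulEquiv.apply_symm_apply] at h2
    exact h2
  have hZN : ∀ v ∈ Subgroup.center X, v ∈ N := by
    intro v hv
    by_cases hvN : v ∈ N
    · exact hvN
    apply x64_norm hX hG ρ hgen N hNinv hab v
    intro a
    have hv1 : v ≠ 1 := fun h => hvN ((hNmem v).2 (Or.inl h))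
    have hvt : t ≠ v := fun h => hvN ((hNmem v).2 (Or.inr h.symm))
    have h4 := x64_four_cases (Subgroup.center X) hZ.le hZ2 t v htZ hv ht1 hv1 hvt (ρ a v)
      (hZinv a v hv)
    rcases h4 with h | h | h | h
    · exact absurd ((map_eq_one_iff (ρ a) (ρ a).injective).1 h) hv1
    · exfalso
      have h' : ρ a v = ρ a t := by rw [h, hfix a]
      exact hvt ((ρ a).injective h').symm
    · rw [h, inv_mul_cancel]
      exact N.one_mem
    · rw [h, ← htc v, inv_mul_cancel_left]
      exact (hNmem t).2 (Or.inr rfl)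
  -- `|Z| ≤ 2`
  have hle : Nat.card (Subgroup.center X) ≤ 2 := by
    classical
    have hinj : Function.Injective (fun z : Subgroup.center X => decide ((z : X) = 1)) := by
      intro z z' h
      simp only [decide_eq_decide] at h
      apply Subtype.ext
      rcases (hNmem _).1 (hZN z z.2) with h1 | h1 <;>
        rcases (hNmem _).1 (hZN z' z'.2) with h2 | h2
      · rw [h1, h2]
      · exfalso; exact ht1 (h2 ▸ (h.1 h1))
      · exfalso; exact ht1 (h1 ▸ (h.2 h2))
      · rw [h1, h2]
    have h2 := Nat.card_le_card_of_injective _ hinj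
    simpa using h2
  omega

/-- Commutators are central when all squares are. -/
theorem x64_spec_comm {X : Type u} [Group X] (hsq : ∀ x : X, x * x ∈ Subgroup.center X)
    (x y : X) : x * y * x⁻¹ * y⁻¹ ∈ Subgroup.center X := by
  have hWsq : ∀ w : X ⧸ Subgroup.center X, w * w = 1 := by
    intro w
    induction w using QuotientGroup.induction_on with
    | H x =>
      rw [← QuotientGroup.mk_mul, QuotientGroup.eq_one_iff]
      exact hsq x
  have hWcomm : ∀ a b : X ⧸ Subgroup.center X, a * b = b * a :=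
    Cfsg.Agent.Lead.CW2.comm_of_sq hWsq
  rw [← QuotientGroup.eq_one_iff]
  simp only [QuotientGroup.mk_mul, QuotientGroup.mk_inv]
  rw [hWcomm (QuotientGroup.mk x) (QuotientGroup.mk y)]
  group

/-- Under `(N)`, with `Z(X)` of exponent 2 and order 4 and central commutators, all involutions
are central. -/
theorem x64_spec_inv_central {X : Type u} [Group X] [Finite X]
    (hN : ∀ N : Subgroup X, N.Normal → (∀ n ∈ N, n * n = 1) → Nat.card N ≤ 4)
    (hcomm : ∀ x y : X, x * y * x⁻¹ * y⁻¹ ∈ Subgroup.center X)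
    (hZ2 : ∀ z ∈ Subgroup.center X, z * z = 1)
    (hZ : Nat.card (Subgroup.center X) = 4) (i : X) (hi : i * i = 1) :
    i ∈ Subgroup.center X := by
  set N := Subgroup.center X ⊔ Subgroup.zpowers i with hN'
  have hZN : Subgroup.center X ≤ N := le_sup_left
  have hiN : i ∈ N := (le_sup_right : Subgroup.zpowers i ≤ N) (Subgroup.mem_zpowers i)
  have hNn : N.Normal := by
    refine ⟨fun n hn g => ?_⟩
    have e : g * n * g⁻¹ = (g * n * g⁻¹ * n⁻¹) * n := by group
    rw [e]
    exact N.mul_mem (hZN (hcomm g n)) hn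
  have hN2 : ∀ n ∈ N, n * n = 1 := by
    intro n hn
    rw [hN', Subgroup.mem_sup_of_normal_left] at hn
    obtain ⟨z, hz, k, hk, rfl⟩ := hn
    obtain ⟨m, rfl⟩ := Subgroup.mem_zpowers_iff.1 hk
    have hzc : ∀ g, g * z = z * g := Subgroup.mem_center_iff.1 hz
    have hii : i ^ m * i ^ m = 1 := by
      rw [← zpow_add, ← two_mul, zpow_mul, zpow_two, hi, one_zpow]
    calc z * i ^ m * (z * i ^ m) = z * (i ^ m * z) * i ^ m := by group
      _ = z * (z * i ^ m) * i ^ m := by rw [hzc]
      _ = (z * z) * (i ^ m * i ^ m) := by group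
      _ = 1 := by rw [hZ2 z hz, hii, one_mul]
  have hcard : Nat.card N ≤ 4 := hN N hNn hN2
  have hEq : Subgroup.center X = N :=
    Subgroup.eq_of_le_of_card_ge hZN (by rw [hZ]; exact hcard)
  rw [hEq]
  exact hiN

/-- Squaring, as a map `X ⧸ Z(X) → Z(X)`. -/
noncomputable def x64_specQ {X : Type u} [Group X] (hsq : ∀ x : X, x * x ∈ Subgroup.center X)
    (hZ2 : ∀ z ∈ Subgroup.center X, z * z = 1) :
    X ⧸ Subgroup.center X → Subgroup.center X :=
  Quotient.lift (s := QuotientGroup.leftRel (Subgroup.center X))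
    (fun x : X => (⟨x * x, hsq x⟩ : Subgroup.center X))
    (by
      intro a b hab
      have hab' : a⁻¹ * b ∈ Subgroup.center X := QuotientGroup.leftRel_apply.1 hab
      apply Subtype.ext
      have hb : b = a * (a⁻¹ * b) := by group
      have hzc := Subgroup.mem_center_iff.1 hab'
      show a * a = b * b
      rw [hb]
      calc a * a = a * a * ((a⁻¹ * b) * (a⁻¹ * b)) := by rw [hZ2 _ hab', mul_one]
        _ = a * (a * (a⁻¹ * b)) * (a⁻¹ * b) := by group
        _ = a * ((a⁻¹ * b) * a) * (a⁻¹ * b) := by rw [hzc a]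
        _ = a * (a⁻¹ * b) * (a * (a⁻¹ * b)) := by group)

theorem x64_specQ_mk {X : Type u} [Group X] (hsq : ∀ x : X, x * x ∈ Subgroup.center X)
    (hZ2 : ∀ z ∈ Subgroup.center X, z * z = 1) (x : X) :
    x64_specQ hsq hZ2 (QuotientGroup.mk x) = ⟨x * x, hsq x⟩ := rfl

/-- The polar form of squaring is the commutator. -/
theorem x64_specQ_polar {X : Type u} [Group X] (hsq : ∀ x : X, x * x ∈ Subgroup.center X)
    (hZ2 : ∀ z ∈ Subgroup.center X, z * z = 1) (x y : X) :
    (((x64_specQ hsq hZ2 (QuotientGroup.mk x) * x64_specQ hsq hZ2 (QuotientGroup.mk y))⁻¹ *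
      x64_specQ hsq hZ2 (QuotientGroup.mk x * QuotientGroup.mk y) : Subgroup.center X) : X) =
      x⁻¹ * y * x * y⁻¹ := by
  rw [← QuotientGroup.mk_mul, x64_specQ_mk, x64_specQ_mk, x64_specQ_mk]
  show (x * x * (y * y))⁻¹ * (x * y * (x * y)) = x⁻¹ * y * x * y⁻¹
  have hc : x⁻¹ * y * x * y⁻¹ ∈ Subgroup.center X := by
    have h := x64_spec_comm hsq x⁻¹ y
    rwa [inv_inv] at h
  have hcc := Subgroup.mem_center_iff.1 hc
  have e : x * y * (x * y) = x * x * (y * y) * (x⁻¹ * y * x * y⁻¹) := by
    calc x * y * (x * y) = x * x * (x⁻¹ * y * x * y⁻¹) * (y * y) := by group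
      _ = x * x * ((y * y) * (x⁻¹ * y * x * y⁻¹)) := by rw [hcc (y * y)]; group
      _ = x * x * (y * y) * (x⁻¹ * y * x * y⁻¹) := by group
  rw [e, inv_mul_cancel_left]

theorem x64_spec {X : Type u} [Group X] [Finite X] (hX : IsPGroup 2 X)
    (hna : ¬ IsMulCommutative X)
    (hN : ∀ N : Subgroup X, N.Normal → (∀ n ∈ N, n * n = 1) → Nat.card N ≤ 4)
    {G : Type v} [Group G] [Finite G] (hG : Odd (Nat.card G)) (ρ : G →* MulAut X)
    (hgen : Subgroup.closure {g : X | ∃ a : G, ∃ x : X, g = x⁻¹ * ρ a x} = ⊤)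
    (hsq : ∀ x : X, x * x ∈ Subgroup.center X)
    (hZ2 : ∀ z ∈ Subgroup.center X, z * z = 1)
    (hZ : Nat.card (Subgroup.center X) = 4) :
    Cfsg.IsSpecial 2 X ∧ Nat.card X = 64 ∧ Nat.card {x : X // orderOf x = 2} = 3 ∧
      ∀ x : X, orderOf x = 2 → x ∈ Subgroup.center X := by
  classical
  haveI : Fact (Nat.Prime 2) := ⟨Nat.prime_two⟩
  have hna' : ¬ ∀ x y : X, x * y = y * x := fun h => hna ⟨⟨h⟩⟩
  have hcomm := x64_spec_comm hsq
  have hinvc := x64_spec_inv_central hN hcomm hZ2 hZ
  have hc : ∀ x y : X, x⁻¹ * y * x * y⁻¹ ∈ Subgroup.center X := by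
    intro x y
    have h := hcomm x⁻¹ y
    rwa [inv_inv] at h
  -- the quadratic map and its polar form
  let Q : X ⧸ Subgroup.center X → Subgroup.center X := x64_specQ hsq hZ2
  obtain ⟨B, hBdef⟩ : ∃ B : X ⧸ Subgroup.center X → X ⧸ Subgroup.center X → Subgroup.center X,
      ∀ u v, B u v = (Q u * Q v)⁻¹ * Q (u * v) := ⟨_, fun _ _ => rfl⟩
  have hWsq : ∀ w : X ⧸ Subgroup.center X, w * w = 1 := by
    intro w
    induction w using QuotientGroup.induction_on with
    | H x =>
      rw [← QuotientGroup.mk_mul, QuotientGroup.eq_one_iff]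
      exact hsq x
  have hYsq : ∀ y : Subgroup.center X, y * y = 1 := fun y => Subtype.ext (hZ2 y.1 y.2)
  have hBmk : ∀ x y : X, ((B (QuotientGroup.mk x) (QuotientGroup.mk y) : Subgroup.center X) : X) =
      x⁻¹ * y * x * y⁻¹ := by
    intro x y
    rw [hBdef]
    exact x64_specQ_polar hsq hZ2 x y
  have hQ1 : Q 1 = 1 := Subtype.ext (one_mul (1 : X))
  have hQ : ∀ u v, Q (u * v) = Q u * Q v * B u v := by
    intro u v
    rw [hBdef, mul_inv_cancel_left]
  have hBl : ∀ u u' v, B (u * u') v = B u v * B u' v := by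
    intro u u' v
    induction u using QuotientGroup.induction_on with
    | H x =>
    induction u' using QuotientGroup.induction_on with
    | H x' =>
    induction v using QuotientGroup.induction_on with
    | H y =>
    apply Subtype.ext
    rw [← QuotientGroup.mk_mul, Subgroup.coe_mul, hBmk, hBmk, hBmk]
    have hcc := Subgroup.mem_center_iff.1 (hc x y)
    calc (x * x')⁻¹ * y * (x * x') * y⁻¹
        = x'⁻¹ * (x⁻¹ * y * x * y⁻¹) * (y * x' * y⁻¹) := by group
      _ = (x⁻¹ * y * x * y⁻¹) * x'⁻¹ * (y * x' * y⁻¹) := by rw [hcc x'⁻¹]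
      _ = (x⁻¹ * y * x * y⁻¹) * (x'⁻¹ * y * x' * y⁻¹) := by group
  have hU : ∀ v, Q v = 1 → v ∈ (⊥ : Subgroup (X ⧸ Subgroup.center X)) := by
    intro v hv
    induction v using QuotientGroup.induction_on with
    | H x =>
    rw [Subgroup.mem_bot, QuotientGroup.eq_one_iff]
    apply hinvc
    have h := congrArg Subtype.val hv
    exact h
  obtain ⟨h16, -, hcl3⟩ := Cfsg.Agent.Lead.CW2.cw2M hWsq hYsq Q B hQ hBl ⊥ hU
  rw [Subgroup.card_bot, one_mul, hZ] at h16
  have hZinv : ∀ a : G, ∀ n ∈ Subgroup.center X, ρ a n ∈ Subgroup.center X := by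
    intro a v hv
    rw [Subgroup.mem_center_iff] at hv ⊢
    intro g
    have h := hv ((ρ a).symm g)
    have h2 := congrArg (ρ a) h
    rw [map_mul, map_mul, MulEquiv.apply_symm_apply] at h2
    exact h2
  have hidx : (Subgroup.center X).index = Nat.card (X ⧸ Subgroup.center X) :=
    Subgroup.index_eq_card _
  have hcardX : Nat.card X = Nat.card (X ⧸ Subgroup.center X) * Nat.card (Subgroup.center X) :=
    Subgroup.card_eq_card_quotient_mul_card_subgroup _
  -- small quotients
  have hsmall : ¬ Nat.card (X ⧸ Subgroup.center X) ≤ 4 := by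
    intro h4
    apply hna'
    by_contra hnc
    push Not at hnc
    obtain ⟨x₀, y₀, hxy⟩ := hnc
    have hc1 : x₀ * y₀ * x₀⁻¹ * y₀⁻¹ ≠ 1 := by
      intro h
      apply hxy
      calc x₀ * y₀ = (x₀ * y₀ * x₀⁻¹ * y₀⁻¹) * (y₀ * x₀) := by group
        _ = y₀ * x₀ := by rw [h, one_mul]
    refine hxy (x64_spec_two hX hG ρ hgen hcomm hZ2 hZ (x₀ * y₀ * x₀⁻¹ * y₀⁻¹) ?_ x₀ y₀)
    intro x y
    by_cases h : x * y * x⁻¹ * y⁻¹ = 1
    · left; exact h
    · right
      exact x64_ab_key (Subgroup.center X)
        (fun v hv x => (Subgroup.mem_center_iff.1 hv x).symm) hZ2 hcomm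
        (by rw [hidx]; exact h4) x y x₀ y₀ h hc1
  -- the quotient of order 8
  have h8 : Nat.card (X ⧸ Subgroup.center X) ≠ 8 := by
    intro h8
    let σ : G →* MulAut (X ⧸ Subgroup.center X) := x64_quotAct ρ (Subgroup.center X) hZinv
    have hσmk : ∀ (a : G) (x : X), σ a (QuotientGroup.mk x) = QuotientGroup.mk (ρ a x) :=
      fun a x => x64_quotAct_mk ρ (Subgroup.center X) hZinv a x
    letI actS : MulAction G {w : X ⧸ Subgroup.center X // w ≠ 1} := x64_specActNe σ
    letI actX : MulAction G X := x64_specAct ρ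
    have hS7 : Nat.card {w : X ⧸ Subgroup.center X // w ≠ 1} = 7 := by
      rw [x64_spec_card_ne_one, h8]
    have hfpf : ∀ w : X ⧸ Subgroup.center X, (∀ a : G, σ a w = w) → w = 1 := by
      intro w hw
      induction w using QuotientGroup.induction_on with
      | H x =>
      rw [QuotientGroup.eq_one_iff]
      apply x64_norm hX hG ρ hgen (Subgroup.center X) hZinv hcomm x
      intro a
      have h := hw a
      rw [hσmk] at h
      exact QuotientGroup.eq.1 h.symm
    have hfix : ∀ s : {w : X ⧸ Subgroup.center X // w ≠ 1}, ∃ g : G, g • s ≠ s := by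
      intro s
      by_contra hcon
      push Not at hcon
      exact s.2 (hfpf s.1 (fun a => congrArg Subtype.val (hcon a)))
    have htrans := x64_orbit hG (Or.inr hS7) hfix
    let f : {w : X ⧸ Subgroup.center X // w ≠ 1} → X := fun s => ((Q s.1 : Subgroup.center X) : X)
    have hf : ∀ (a : G) (s : {w : X ⧸ Subgroup.center X // w ≠ 1}), f (a • s) = a • f s := by
      intro a s
      obtain ⟨w, hw⟩ := s
      induction w using QuotientGroup.induction_on with
      | H x =>
      show ((Q (σ a (QuotientGroup.mk x)) : Subgroup.center X) : X) =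
        ρ a ((Q (QuotientGroup.mk x) : Subgroup.center X) : X)
      rw [hσmk]
      show ρ a x * ρ a x = ρ a (x * x)
      rw [map_mul]
    let A : Set X := {x | x ∈ Subgroup.center X ∧ x ≠ 1}
    have hAfin : A.Finite := Set.toFinite A
    have hA3 : A.ncard ≤ 3 := by
      have hAeq : A = (Subgroup.center X : Set X) \ {1} := by
        ext x
        simp [A]
      rw [hAeq, Set.ncard_sdiff_singleton_of_mem (Subgroup.center X).one_mem]
      have h4 : (Subgroup.center X : Set X).ncard = 4 := by
        rw [← Nat.card_coe_set_eq]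
        exact hZ
      omega
    have hAinv : ∀ (a : G) (t : X), t ∈ A → a • t ∈ A := by
      rintro a t ⟨ht, ht1⟩
      exact ⟨hZinv a t ht, fun h => ht1 ((map_eq_one_iff (ρ a) (ρ a).injective).1 h)⟩
    have hfA : ∀ s, f s ∈ A := by
      intro s
      refine ⟨(Q s.1).2, fun h => s.2 ?_⟩
      have h1 : Q s.1 = 1 := Subtype.ext h
      exact Subgroup.mem_bot.1 (hU s.1 h1)
    have hfixed : ∀ s (a : G), a • f s = f s := fun s a =>
      x64_spec_fix f hf htrans hS7 A hAfin hA3 hAinv s (hfA s) a
    obtain ⟨s₀⟩ : Nonempty {w : X ⧸ Subgroup.center X // w ≠ 1} := by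
      rw [← Finite.card_pos_iff, hS7]
      norm_num
    have hconst : ∀ w : X ⧸ Subgroup.center X, w ≠ 1 → Q w = Q s₀.1 := by
      intro w hw
      obtain ⟨a, ha⟩ := htrans s₀ ⟨w, hw⟩
      apply Subtype.ext
      show f ⟨w, hw⟩ = f s₀
      rw [← ha, hf, hfixed s₀ a]
    have hBz : ∀ u v : X ⧸ Subgroup.center X, B u v = 1 ∨ B u v = Q s₀.1 := by
      intro u v
      rw [hBdef]
      by_cases hu : u = 1
      · left
        rw [hu, one_mul, hQ1, one_mul, inv_mul_cancel]
      by_cases hv : v = 1
      · left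
        rw [hv, mul_one, hQ1, mul_one, inv_mul_cancel]
      by_cases huv : u * v = 1
      · left
        rw [huv, hQ1, hconst u hu, hconst v hv, hYsq, inv_one, one_mul]
      · right
        rw [hconst u hu, hconst v hv, hconst (u * v) huv, hYsq, inv_one, one_mul]
    have hct : ∀ x y : X, x * y * x⁻¹ * y⁻¹ = 1 ∨
        x * y * x⁻¹ * y⁻¹ = ((Q s₀.1 : Subgroup.center X) : X) := by
      intro x y
      have e : x * y * x⁻¹ * y⁻¹ =
          ((B (QuotientGroup.mk x⁻¹) (QuotientGroup.mk y) : Subgroup.center X) : X) := by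
        rw [hBmk, inv_inv]
      rcases hBz (QuotientGroup.mk x⁻¹) (QuotientGroup.mk y) with h | h
      · left
        rw [e, h]
        rfl
      · right
        rw [e, h]
    exact hna' (x64_spec_two hX hG ρ hgen hcomm hZ2 hZ _ hct)
  -- the order of the quotient
  obtain ⟨k, hk⟩ := (hX.to_quotient (Subgroup.center X)).exists_card_eq
  have hW16 : Nat.card (X ⧸ Subgroup.center X) = 16 := by
    have hk4 : k ≤ 4 := by
      by_contra hcon
      rw [not_le] at hcon
      have h32 : 2 ^ 5 ≤ 2 ^ k := Nat.pow_le_pow_right (by norm_num) hcon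
      rw [hk] at h16
      norm_num at h16 h32
      omega
    have hcases : k = 0 ∨ k = 1 ∨ k = 2 ∨ k = 3 ∨ k = 4 := by omega
    rcases hcases with rfl | rfl | rfl | rfl | rfl
    · exact absurd (by rw [hk]; norm_num) hsmall
    · exact absurd (by rw [hk]; norm_num) hsmall
    · exact absurd (by rw [hk]; norm_num) hsmall
    · exact absurd (by rw [hk]; norm_num) h8
    · rw [hk]; norm_num
  have hX64 : Nat.card X = 64 := by rw [hcardX, hW16, hZ]
  -- the commutator subgroup
  have hcomle : commutator X ≤ Subgroup.center X := by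
    rw [commutator_eq_closure, Subgroup.closure_le]
    rintro _ ⟨x, y, rfl⟩
    rw [commutatorElement_def]
    exact hcomm x y
  have hcomeq : commutator X = Subgroup.center X := by
    by_contra hne
    have hY0 : (commutator X).subgroupOf (Subgroup.center X) ≠ ⊤ := by
      intro h
      exact hne (le_antisymm hcomle (Subgroup.subgroupOf_eq_top.1 h))
    have hlt := hcl3 rfl _ hY0 (by
      intro u v
      induction u using QuotientGroup.induction_on with
      | H x =>
      induction v using QuotientGroup.induction_on with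
      | H y =>
      rw [Subgroup.mem_subgroupOf, hBmk]
      have e : x⁻¹ * y * x * y⁻¹ = ⁅x⁻¹, y⁆ := by rw [commutatorElement_def, inv_inv]
      rw [e, commutator_def]
      exact Subgroup.commutator_mem_commutator (Subgroup.mem_top _) (Subgroup.mem_top _))
    rw [hW16, hZ] at hlt
    omega
  have hfrle : frattini X ≤ Subgroup.center X :=
    Cfsg.Agent.Helper5.frattini_le_of_forall (p := 2) (Subgroup.center X)
      (fun x => by rw [pow_two]; exact hsq x) hcomm
  have hfrge : Subgroup.center X ≤ frattini X := by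
    rw [← hcomeq, commutator_eq_closure, Subgroup.closure_le]
    rintro _ ⟨x, y, rfl⟩
    rw [commutatorElement_def]
    exact Cfsg.Agent.Helper4.pgroup_commutator_mem_frattini hX x y
  have hinv2 : ∀ x : X, orderOf x = 2 → x ∈ Subgroup.center X := by
    intro x hx
    apply hinvc
    rw [← pow_two, ← hx]
    exact pow_orderOf_eq_one x
  have hcount : Nat.card {x : X // orderOf x = 2} = 3 := by
    have e : {x : X // orderOf x = 2} ≃ {z : Subgroup.center X // z ≠ 1} :=
      { toFun := fun x => ⟨⟨x.1, hinv2 x.1 x.2⟩, fun h => by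
            have h1 : x.1 = 1 := congrArg Subtype.val h
            have h2 := x.2
            rw [h1, orderOf_one] at h2
            omega⟩
        invFun := fun z => ⟨z.1.1, by
            apply orderOf_eq_prime
            · rw [pow_two]
              exact hZ2 _ z.1.2
            · intro h
              exact z.2 (Subtype.ext h)⟩
        left_inv := fun x => rfl
        right_inv := fun z => rfl }
    rw [Nat.card_congr e, x64_spec_card_ne_one, hZ]
  exact ⟨⟨hX, le_antisymm hfrle hfrge, hcomeq⟩, hX64, hcount, hinv2⟩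

end Cfsg.Agent.X64
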