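import Mathlib
import Cfsg.Prelude.Def_Transfer
import Cfsg.Agent.X64.Basic
import Cfsg.Agent.X64.Extra
import Cfsg.Agent.X64.Spec

/-!
# S1904, T2: `S'(X)` and the bound on the normal subgroups of exponent 2 give the conclusion
-/

set_option autoImplicit false

namespace Cfsg.Agent.X64

universe u v

/-- T2: `S'(X)` and the bound on normal subgroups of exponent 2 give the conclusion of S1904. -/
theorem x64_t2 {X : Type u} [Group X] [Finite X] (hX : IsPGroup 2 X)
    (hna : ¬ IsMulCommutative X)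
    (hN : ∀ N : Subgroup X, N.Normal → (∀ n ∈ N, n * n = 1) → Nat.card N ≤ 4)
    {G : Type v} [Group G] [Finite G] (hG : Odd (Nat.card G)) (ρ : G →* MulAut X)
    (hgen : Subgroup.closure {g : X | ∃ a : G, ∃ x : X, g = x⁻¹ * ρ a x} = ⊤)
    (hsq : ∀ x : X, x * x ∈ Subgroup.center X)
    (hZ2 : ∀ z ∈ Subgroup.center X, z * z = 1) :
    Nonempty (X ≃* QuaternionGroup 2) ∨
      (Cfsg.IsSpecial 2 X ∧ Nat.card X = 64 ∧ Nat.card {x : X // orderOf x = 2} = 3 ∧
        ∀ x : X, orderOf x = 2 → x ∈ Subgroup.center X) ∨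
      (Cfsg.IsExtraspecial 2 X ∧ Nat.card X = 32 ∧ Nat.card {x : X // orderOf x = 2} = 11) := by
  have hle : Nat.card (Subgroup.center X) ≤ 4 := hN _ inferInstance hZ2
  have hnt : Nontrivial X := by
    by_contra h
    rw [not_nontrivial_iff_subsingleton] at h
    exact hna ⟨⟨fun a b => Subsingleton.elim _ _⟩⟩
  have hZnt : Nontrivial (Subgroup.center X) := hX.center_nontrivial
  have h1 : 1 < Nat.card (Subgroup.center X) := Finite.one_lt_card
  obtain ⟨k, hk⟩ := (hX.to_subgroup (Subgroup.center X)).exists_card_eq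
  have hk12 : k = 1 ∨ k = 2 := by
    rcases k with _ | _ | _ | k
    · rw [hk] at h1; norm_num at h1
    · left; rfl
    · right; rfl
    · exfalso
      rw [hk] at hle
      have : 2 ^ 3 ≤ 2 ^ (k + 1 + 1 + 1) := Nat.pow_le_pow_right (by norm_num) (by omega)
      omega
  rcases hk12 with rfl | rfl
  · have hZ : Nat.card (Subgroup.center X) = 2 := by rw [hk]; norm_num
    rcases x64_extra hX hna hN hG ρ hgen hsq hZ with h | h
    · exact Or.inl h
    · exact Or.inr (Or.inr h)
  · have hZ : Nat.card (Subgroup.center X) = 4 := by rw [hk]; norm_num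
    exact Or.inr (Or.inl (x64_spec hX hna hN hG ρ hgen hsq hZ2 hZ))

end Cfsg.Agent.X64
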