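import Mathlib
import Cfsg.Prelude.Def_Transfer
import Cfsg.Agent.S1894

/-!
# S1904: the top-level glue (R0, the shape of the hypotheses, T2)
-/

set_option autoImplicit false

namespace Cfsg.Agent.X64

universe u v

/-- R0: the hypothesis of S1904 on self-centralizing normal abelian subgroups bounds the normal
subgroups of exponent 2. -/
theorem x64_r0 {X : Type u} [Group X] [Finite X] (hX : IsPGroup 2 X)
    (hscn : ¬ ∃ A : Subgroup X, A.Normal ∧ Subgroup.centralizer (A : Set X) = A ∧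
      ∃ E : Subgroup X, E ≤ A ∧ Cfsg.IsElementaryAbelian 2 E ∧ Nat.card E = 8) :
    ∀ N : Subgroup X, N.Normal → (∀ n ∈ N, n * n = 1) → Nat.card N ≤ 4 := by
  intro N hNn hN2
  by_contra hcon
  rw [not_le] at hcon
  have : N.Normal := hNn
  -- N is commutative
  have hcomm : ∀ a ∈ N, ∀ b ∈ N, a * b = b * a := by
    intro a ha b hb
    have h1 := hN2 a ha
    have h2 := hN2 b hb
    have h3 := hN2 (a * b) (N.mul_mem ha hb)
    have ha' : a⁻¹ = a := inv_eq_of_mul_eq_one_left h1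
    have hb' : b⁻¹ = b := inv_eq_of_mul_eq_one_left h2
    have h4 : (a * b)⁻¹ = a * b := inv_eq_of_mul_eq_one_left h3
    rw [mul_inv_rev, ha', hb'] at h4
    exact h4.symm
  have hNc : IsMulCommutative N :=
    ⟨⟨fun a b => Subtype.ext (hcomm a a.2 b b.2)⟩⟩
  -- a subgroup of order 8
  obtain ⟨k, hk⟩ := (hX.to_subgroup N).exists_card_eq
  have hk3 : 3 ≤ k := by
    by_contra h
    have hk2 : k ≤ 2 := by omega
    have : 2 ^ k ≤ 2 ^ 2 := Nat.pow_le_pow_right (by norm_num) hk2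
    omega
  have hdvd : 2 ^ 3 ∣ Nat.card N := by
    rw [hk]
    exact pow_dvd_pow 2 hk3
  obtain ⟨K, hK⟩ := Sylow.exists_subgroup_card_pow_prime 2 hdvd
  have hE8 : Nat.card (K.map N.subtype) = 8 := by
    rw [Subgroup.card_map_of_injective N.subtype_injective, hK]
    norm_num
  have hEN : K.map N.subtype ≤ N := by
    rintro _ ⟨y, _, rfl⟩
    exact y.2
  have hEel : Cfsg.IsElementaryAbelian 2 (K.map N.subtype) := by
    refine ⟨⟨⟨fun a b => Subtype.ext (hcomm a (hEN a.2) b (hEN b.2))⟩⟩, ?_⟩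
    intro a ha
    rw [pow_two]
    exact hN2 a (hEN ha)
  obtain ⟨C, hCn, hNC, hC⟩ := Cfsg.Agent.S1894.result hX (⊤ : Subgroup X) N le_top hNc
  apply hscn
  refine ⟨C, hCn, ?_, K.map N.subtype, hEN.trans hNC, hEel, hE8⟩
  have := hC.2.2
  rwa [top_inf_eq] at this

/-- the shape of `hna` used in the lemmas on the tower. -/
theorem x64_na {X : Type u} [Group X] (hna : ¬ IsMulCommutative X) :
    ¬ ∀ x y : X, x * y = y * x := fun h => hna ⟨⟨h⟩⟩

/-- the action of a subgroup of `MulAut X`, as a homomorphism. -/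
theorem x64_gen_sub {X : Type u} [Group X] (A : Subgroup (MulAut X))
    (hXA : Subgroup.closure {g : X | ∃ φ ∈ A, ∃ x : X, g = x⁻¹ * φ x} = ⊤) :
    Subgroup.closure {g : X | ∃ a : ↥A, ∃ x : X, g = x⁻¹ * A.subtype a x} = ⊤ := by
  rw [← hXA]
  congr 1
  ext g
  constructor
  · rintro ⟨a, x, rfl⟩
    exact ⟨a.1, a.2, x, rfl⟩
  · rintro ⟨φ, hφ, x, rfl⟩
    exact ⟨⟨φ, hφ⟩, x, rfl⟩

end Cfsg.Agent.X64
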