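import Mathlib
import Cfsg.Agent.X64.Basic
import Cfsg.Agent.X64.Four
import Cfsg.Agent.X64.Quot

/-!
# S1904, piece F, the small cases: `S'(X)`, centre of order 4 containing all involutions,
index of the centre 4 or 8: impossible.
-/

set_option autoImplicit false

namespace Cfsg.Agent.X64

universe u v

/-- the centre is invariant under automorphisms. -/
theorem x64_ss_center_inv {X : Type u} [Group X] {G : Type v} [Group G] (ρ : G →* MulAut X)
    (a : G) (z : X) (hz : z ∈ Subgroup.center X) : ρ a z ∈ Subgroup.center X := by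
  rw [Subgroup.mem_center_iff] at hz ⊢
  intro y
  have h1 : y = ρ a ((ρ a).symm y) := ((ρ a).apply_symm_apply y).symm
  rw [h1, ← map_mul, ← map_mul, hz]

/-- when squares are central, commutators are products of squares, hence central. -/
theorem x64_ss_comm_eq {X : Type u} [Group X] (hsq : ∀ x : X, x * x ∈ Subgroup.center X)
    (x y : X) : x * y * x⁻¹ * y⁻¹ = (x * y) * (x * y) * (x * x)⁻¹ * (y * y)⁻¹ := by
  have hc : y * (x * x)⁻¹ = (x * x)⁻¹ * y :=
    Subgroup.mem_center_iff.1 (Subgroup.inv_mem _ (hsq x)) y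
  calc x * y * x⁻¹ * y⁻¹ = x * y * x * ((x * x)⁻¹ * y) * (y * y)⁻¹ := by group
    _ = x * y * x * (y * (x * x)⁻¹) * (y * y)⁻¹ := by rw [hc]
    _ = (x * y) * (x * y) * (x * x)⁻¹ * (y * y)⁻¹ := by group

theorem x64_ss_comm_mem {X : Type u} [Group X] (hsq : ∀ x : X, x * x ∈ Subgroup.center X)
    (x y : X) : x * y * x⁻¹ * y⁻¹ ∈ Subgroup.center X := by
  rw [x64_ss_comm_eq hsq]
  exact Subgroup.mul_mem _ (Subgroup.mul_mem _ (hsq _) (Subgroup.inv_mem _ (hsq _)))
    (Subgroup.inv_mem _ (hsq _))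

/-- the square depends only on the coset of the centre. -/
theorem x64_ss_sq_mul {X : Type u} [Group X] (hZ2 : ∀ z ∈ Subgroup.center X, z * z = 1)
    (x z : X) (hz : z ∈ Subgroup.center X) : (x * z) * (x * z) = x * x := by
  have hc : z * x = x * z := (Subgroup.mem_center_iff.1 hz x).symm
  calc (x * z) * (x * z) = x * (z * x) * z := by group
    _ = x * (x * z) * z := by rw [hc]
    _ = x * x * (z * z) := by group
    _ = x * x := by rw [hZ2 z hz, mul_one]

/-- two elements in the same coset of the centre have the same square. -/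
theorem x64_ss_sq_coset {X : Type u} [Group X] (hZ2 : ∀ z ∈ Subgroup.center X, z * z = 1)
    (x y : X) (h : (QuotientGroup.mk y : X ⧸ Subgroup.center X) = QuotientGroup.mk x) :
    y * y = x * x := by
  have h1 : x⁻¹ * y ∈ Subgroup.center X := QuotientGroup.eq.1 h.symm
  have h2 := x64_ss_sq_mul hZ2 x (x⁻¹ * y) h1
  rw [mul_inv_cancel_left] at h2
  exact h2

/-- an element of `G` moving a central involution `z0` permutes the three involutions of the centre
cyclically. -/
theorem x64_ss_three {X : Type u} [Group X] [Finite X] {G : Type v} [Group G] [Finite G]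
    (hG : Odd (Nat.card G)) (ρ : G →* MulAut X)
    (hZ2 : ∀ z ∈ Subgroup.center X, z * z = 1) (hZ : Nat.card (Subgroup.center X) = 4)
    (a0 : G) (z0 : X) (hz0 : z0 ∈ Subgroup.center X) (hz01 : z0 ≠ 1) (hmove : ρ a0 z0 ≠ z0) :
    ρ a0 z0 ≠ 1 ∧ ρ a0 (ρ a0 z0) = z0 * ρ a0 z0 ∧
      ∀ v ∈ Subgroup.center X, v = 1 ∨ v = z0 ∨ v = ρ a0 z0 ∨ v = z0 * ρ a0 z0 := by
  have hinj := (ρ a0).injective
  have hz1 : ρ a0 z0 ∈ Subgroup.center X := x64_ss_center_inv ρ a0 z0 hz0
  have hz11 : ρ a0 z0 ≠ 1 := by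
    intro h
    apply hz01
    apply hinj
    rw [h, map_one]
  have hcases := x64_four_cases (Subgroup.center X) hZ.le hZ2 z0 (ρ a0 z0) hz0 hz1 hz01 hz11
    (fun h => hmove h.symm)
  refine ⟨hz11, ?_, hcases⟩
  have hz2 : ρ a0 (ρ a0 z0) ∈ Subgroup.center X := x64_ss_center_inv ρ a0 _ hz1
  rcases hcases _ hz2 with h | h | h | h
  · exfalso
    apply hz11
    apply hinj
    rw [h, map_one]
  · exfalso
    exact hmove (x64_no_swap hG ρ a0 z0 (ρ a0 z0) rfl h).symm
  · exfalso
    exact hmove (hinj h)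
  · exact h

/-- elements in the same coset of the centre commute with the same elements. -/
theorem x64_ss_comm_coset {X : Type u} [Group X] (x0 c y : X) (hc : c * x0 = x0 * c)
    (h : (QuotientGroup.mk y : X ⧸ Subgroup.center X) = QuotientGroup.mk c) :
    y * x0 = x0 * y := by
  have h1 : c⁻¹ * y ∈ Subgroup.center X := QuotientGroup.eq.1 h.symm
  have h2 : x0 * (c⁻¹ * y) = (c⁻¹ * y) * x0 := Subgroup.mem_center_iff.1 h1 x0
  calc y * x0 = c * ((c⁻¹ * y) * x0) := by group
    _ = c * (x0 * (c⁻¹ * y)) := by rw [h2]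
    _ = (c * x0) * (c⁻¹ * y) := by group
    _ = (x0 * c) * (c⁻¹ * y) := by rw [hc]
    _ = x0 * y := by group

/-- Case B, index 4: a noncentral element whose square is moved by some `a0`. -/
theorem x64_ss_B4 {X : Type u} [Group X] [Finite X] {G : Type v} [Group G] [Finite G]
    (hG : Odd (Nat.card G)) (ρ : G →* MulAut X)
    (hsq : ∀ x : X, x * x ∈ Subgroup.center X)
    (hZ2 : ∀ z ∈ Subgroup.center X, z * z = 1)
    (hinv : ∀ x : X, x * x = 1 → x ∈ Subgroup.center X)
    (hZ : Nat.card (Subgroup.center X) = 4)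
    (hidx : (Subgroup.center X).index = 4)
    (x0 : X) (hx0 : x0 ∉ Subgroup.center X) (a0 : G) (hmove : ρ a0 (x0 * x0) ≠ x0 * x0) :
    False := by
  have hz01 : x0 * x0 ≠ 1 := fun h => hx0 (hinv x0 h)
  obtain ⟨hz11, hz2, -⟩ := x64_ss_three hG ρ hZ2 hZ a0 (x0 * x0) (hsq x0) hz01 hmove
  have hz0sq : (x0 * x0) * (x0 * x0) = 1 := hZ2 _ (hsq x0)
  -- x1, x2
  have hx1sq : ρ a0 x0 * ρ a0 x0 = ρ a0 (x0 * x0) := (map_mul _ _ _).symm
  have hx2sq : ρ a0 (ρ a0 x0) * ρ a0 (ρ a0 x0) = (x0 * x0) * ρ a0 (x0 * x0) := by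
    rw [← map_mul, hx1sq, hz2]
  have hnotZ : ∀ x : X, x * x ≠ 1 → x ∉ Subgroup.center X := fun x hx hxZ => hx (hZ2 x hxZ)
  have hx1 : ρ a0 x0 ∉ Subgroup.center X := hnotZ _ (by rw [hx1sq]; exact hz11)
  have hz01z1 : (x0 * x0) * ρ a0 (x0 * x0) ≠ 1 := by
    intro h
    apply hmove
    have h3 : ρ a0 (x0 * x0) = (x0 * x0)⁻¹ := eq_inv_of_mul_eq_one_right h
    rw [h3]
    exact inv_eq_of_mul_eq_one_left hz0sq
  -- the quotient
  have hW4 : Nat.card (X ⧸ Subgroup.center X) = 4 := by
    rw [← Subgroup.index_eq_card]; exact hidx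
  have hWexp : ∀ w ∈ (⊤ : Subgroup (X ⧸ Subgroup.center X)), w * w = 1 := by
    intro w _
    induction w using QuotientGroup.induction_on with
    | H x =>
      rw [← QuotientGroup.mk_mul]
      exact (QuotientGroup.eq_one_iff _).2 (hsq x)
  have htop4 : Nat.card (⊤ : Subgroup (X ⧸ Subgroup.center X)) ≤ 4 := by
    rw [Subgroup.card_top, hW4]
  have hu1 : (QuotientGroup.mk x0 : X ⧸ Subgroup.center X) ≠ 1 := fun h =>
    hx0 ((QuotientGroup.eq_one_iff x0).1 h)
  have hv1 : (QuotientGroup.mk (ρ a0 x0) : X ⧸ Subgroup.center X) ≠ 1 := fun h =>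
    hx1 ((QuotientGroup.eq_one_iff _).1 h)
  have huv : (QuotientGroup.mk x0 : X ⧸ Subgroup.center X) ≠ QuotientGroup.mk (ρ a0 x0) := by
    intro h
    have h1 := x64_ss_sq_coset hZ2 (ρ a0 x0) x0 h
    rw [hx1sq] at h1
    exact hmove h1.symm
  have hcases := x64_four_cases (⊤ : Subgroup (X ⧸ Subgroup.center X)) htop4 hWexp
    (QuotientGroup.mk x0) (QuotientGroup.mk (ρ a0 x0)) (Subgroup.mem_top _) (Subgroup.mem_top _)
    hu1 hv1 huv
  -- x0 and x1 commute
  have hcomm01 : x0 * ρ a0 x0 = ρ a0 x0 * x0 := by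
    rcases hcases (QuotientGroup.mk (ρ a0 (ρ a0 x0))) (Subgroup.mem_top _) with h | h | h | h
    · exfalso
      have h1 := (QuotientGroup.eq_one_iff _).1 h
      have h2 := hZ2 _ h1
      rw [hx2sq] at h2
      exact hz01z1 h2
    · exfalso
      have h1 := x64_ss_sq_coset hZ2 x0 _ h
      rw [hx2sq] at h1
      -- z0 * z1 = z0
      exact hz11 (mul_eq_left.1 h1)
    · exfalso
      have h1 := x64_ss_sq_coset hZ2 (ρ a0 x0) _ h
      rw [hx2sq, hx1sq] at h1
      exact hz01 (mul_eq_right.1 h1)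
    · rw [← QuotientGroup.mk_mul] at h
      have h1 := x64_ss_sq_coset hZ2 (x0 * ρ a0 x0) _ h
      rw [hx2sq, ← hx1sq] at h1
      -- x0 x0 x1 x1 = x0 x1 x0 x1
      have h2 : x0 * (x0 * ρ a0 x0) * ρ a0 x0 = x0 * (ρ a0 x0 * x0) * ρ a0 x0 := by
        calc x0 * (x0 * ρ a0 x0) * ρ a0 x0 = x0 * x0 * (ρ a0 x0 * ρ a0 x0) := by group
          _ = x0 * ρ a0 x0 * (x0 * ρ a0 x0) := h1
          _ = x0 * (ρ a0 x0 * x0) * ρ a0 x0 := by group
      exact mul_left_cancel (mul_right_cancel h2)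
  -- x0 is central
  apply hx0
  rw [Subgroup.mem_center_iff]
  intro y
  rcases hcases (QuotientGroup.mk y) (Subgroup.mem_top _) with h | h | h | h
  · have h1 : y ∈ Subgroup.center X := (QuotientGroup.eq_one_iff _).1 h
    exact (Subgroup.mem_center_iff.1 h1 x0).symm
  · exact x64_ss_comm_coset x0 x0 y rfl h
  · exact x64_ss_comm_coset x0 (ρ a0 x0) y hcomm01.symm h
  · rw [← QuotientGroup.mk_mul] at h
    refine x64_ss_comm_coset x0 (x0 * ρ a0 x0) y ?_ h
    calc x0 * ρ a0 x0 * x0 = x0 * (ρ a0 x0 * x0) := by group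
      _ = x0 * (x0 * ρ a0 x0) := by rw [hcomm01]


/-- an automorphism carries the solutions of `x * x = z` to those of `x * x = φ z`. -/
theorem x64_ss_fiber_card {X : Type u} [Group X] [Fintype X] [DecidableEq X] (φ : MulAut X)
    (z z' : X) (h : φ z = z') :
    (Finset.univ.filter (fun x : X => x * x = z)).card =
      (Finset.univ.filter (fun x : X => x * x = z')).card := by
  apply Finset.card_bij (fun x _ => φ x)
  · intro x hx
    rw [Finset.mem_filter] at hx ⊢
    refine ⟨Finset.mem_univ _, ?_⟩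
    rw [← map_mul, hx.2, h]
  · intro x _ y _ hxy
    exact φ.injective hxy
  · intro y hy
    rw [Finset.mem_filter] at hy
    refine ⟨φ.symm y, ?_, φ.apply_symm_apply y⟩
    rw [Finset.mem_filter]
    refine ⟨Finset.mem_univ _, ?_⟩
    rw [← map_mul, hy.2, ← h]
    exact φ.symm_apply_apply z

/-- Case B, index 8: counting the solutions of `x * x = z`. -/
theorem x64_ss_B8 {X : Type u} [Group X] [Finite X] {G : Type v} [Group G] [Finite G]
    (hG : Odd (Nat.card G)) (ρ : G →* MulAut X)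
    (hsq : ∀ x : X, x * x ∈ Subgroup.center X)
    (hZ2 : ∀ z ∈ Subgroup.center X, z * z = 1)
    (hinv : ∀ x : X, x * x = 1 → x ∈ Subgroup.center X)
    (hZ : Nat.card (Subgroup.center X) = 4)
    (hidx : (Subgroup.center X).index = 8)
    (x0 : X) (hx0 : x0 ∉ Subgroup.center X) (a0 : G) (hmove : ρ a0 (x0 * x0) ≠ x0 * x0) :
    False := by
  classical
  have : Fintype X := Fintype.ofFinite X
  have hz01 : x0 * x0 ≠ 1 := fun h => hx0 (hinv x0 h)
  obtain ⟨hz11, hz2, hcases⟩ := x64_ss_three hG ρ hZ2 hZ a0 (x0 * x0) (hsq x0) hz01 hmove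
  have hz0sq : (x0 * x0) * (x0 * x0) = 1 := hZ2 _ (hsq x0)
  have hz01z1 : (x0 * x0) * ρ a0 (x0 * x0) ≠ 1 := by
    intro h
    apply hmove
    have h3 : ρ a0 (x0 * x0) = (x0 * x0)⁻¹ := eq_inv_of_mul_eq_one_right h
    rw [h3]
    exact inv_eq_of_mul_eq_one_left hz0sq
  have hcardX : Fintype.card X = 32 := by
    rw [← Nat.card_eq_fintype_card, ← Subgroup.card_mul_index (Subgroup.center X), hZ, hidx]
  have hval : ∀ x ∈ (Finset.univ : Finset X),
      x * x ∈ ({1, x0 * x0, ρ a0 (x0 * x0), (x0 * x0) * ρ a0 (x0 * x0)} : Finset X) := by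
    intro x _
    rcases hcases _ (hsq x) with h | h | h | h <;> simp [h]
  have hsum := Finset.card_eq_sum_card_fiberwise hval
  have hn1 : (1 : X) ∉ ({x0 * x0, ρ a0 (x0 * x0), (x0 * x0) * ρ a0 (x0 * x0)} : Finset X) := by
    simp only [Finset.mem_insert, Finset.mem_singleton, not_or]
    exact ⟨fun h => hz01 h.symm, fun h => hz11 h.symm, fun h => hz01z1 h.symm⟩
  have hn2 : (x0 * x0) ∉ ({ρ a0 (x0 * x0), (x0 * x0) * ρ a0 (x0 * x0)} : Finset X) := by
    simp only [Finset.mem_insert, Finset.mem_singleton, not_or]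
    refine ⟨fun h => hmove h.symm, fun h => hz11 ?_⟩
    exact mul_eq_left.1 h.symm
  have hn3 : ρ a0 (x0 * x0) ∉ ({(x0 * x0) * ρ a0 (x0 * x0)} : Finset X) := by
    simp only [Finset.mem_singleton]
    intro h
    exact hz01 (mul_eq_right.1 h.symm)
  rw [Finset.sum_insert hn1, Finset.sum_insert hn2, Finset.sum_insert hn3, Finset.sum_singleton,
    Finset.card_univ, hcardX] at hsum
  have hf1 : (Finset.univ.filter (fun x : X => x * x = 1)).card = 4 := by
    rw [← hZ, Nat.card_eq_fintype_card, Fintype.card_subtype]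
    congr 1
    ext x
    simp only [Finset.mem_filter, Finset.mem_univ, true_and]
    exact ⟨fun h => hinv x h, fun h => hZ2 x h⟩
  have hf2 := x64_ss_fiber_card (ρ a0) (x0 * x0) (ρ a0 (x0 * x0)) rfl
  have hf3 := x64_ss_fiber_card (ρ a0) (ρ a0 (x0 * x0)) ((x0 * x0) * ρ a0 (x0 * x0)) hz2
  rw [hf1, ← hf3, ← hf2] at hsum
  omega


/-- the action on the nontrivial elements of a group through automorphisms. -/
@[reducible] noncomputable def x64_ss_act {W : Type u} [Group W] {G : Type v} [Group G]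
    (σ : G →* MulAut W) : MulAction G {w : W // w ≠ 1} where
  smul a w := ⟨σ a w.1, fun h => w.2 ((map_eq_one_iff (σ a) (σ a).injective).1 h)⟩
  one_smul w := Subtype.ext (by
    show σ 1 w.1 = w.1
    rw [map_one]; rfl)
  mul_smul a b w := Subtype.ext (by
    show σ (a * b) w.1 = σ a (σ b w.1)
    rw [map_mul]; rfl)

/-- Case A: the squares of the noncentral elements are fixed by `G`. -/
theorem x64_ss_A {X : Type u} [Group X] [Finite X] (hX : IsPGroup 2 X)
    {G : Type v} [Group G] [Finite G] (hG : Odd (Nat.card G)) (ρ : G →* MulAut X)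
    (hgen : Subgroup.closure {g : X | ∃ a : G, ∃ x : X, g = x⁻¹ * ρ a x} = ⊤)
    (hsq : ∀ x : X, x * x ∈ Subgroup.center X)
    (hZ2 : ∀ z ∈ Subgroup.center X, z * z = 1)
    (hinv : ∀ x : X, x * x = 1 → x ∈ Subgroup.center X)
    (hZ : Nat.card (Subgroup.center X) = 4)
    (hW : (Subgroup.center X).index = 4 ∨ (Subgroup.center X).index = 8)
    (hfixsq : ∀ x : X, x ∉ Subgroup.center X → ∀ a : G, ρ a (x * x) = x * x) : False := by
  have hZinv : ∀ a : G, ∀ n ∈ Subgroup.center X, ρ a n ∈ Subgroup.center X :=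
    fun a n hn => x64_ss_center_inv ρ a n hn
  have hfp : ∀ x : X, (∀ a : G, x⁻¹ * ρ a x ∈ Subgroup.center X) → x ∈ Subgroup.center X :=
    fun x hx => x64_norm hX hG ρ hgen (Subgroup.center X) hZinv (x64_ss_comm_mem hsq) x hx
  -- a noncentral element
  have hex : ∃ x0 : X, x0 ∉ Subgroup.center X := by
    by_contra hcon
    push Not at hcon
    have htop : Subgroup.center X = ⊤ := by
      rw [eq_top_iff]
      intro x _
      exact hcon x
    rw [htop, Subgroup.index_top] at hW
    omega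
  obtain ⟨x0, hx0⟩ := hex
  have hz01 : x0 * x0 ≠ 1 := fun h => hx0 (hinv x0 h)
  have hz0sq : (x0 * x0) * (x0 * x0) = 1 := hZ2 _ (hsq x0)
  -- the action on the nontrivial cosets
  let _ : MulAction G {w : X ⧸ Subgroup.center X // w ≠ 1} :=
    x64_ss_act (x64_quotAct ρ (Subgroup.center X) hZinv)
  have hsmul : ∀ (a : G) (w : {w : X ⧸ Subgroup.center X // w ≠ 1}),
      (a • w).1 = x64_quotAct ρ (Subgroup.center X) hZinv a w.1 := fun _ _ => rfl
  have hS : Nat.card {w : X ⧸ Subgroup.center X // w ≠ 1} = 3 ∨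
      Nat.card {w : X ⧸ Subgroup.center X // w ≠ 1} = 7 := by
    have h1 : Nat.card {w : X ⧸ Subgroup.center X // w ≠ 1} =
        ({(1 : X ⧸ Subgroup.center X)}ᶜ : Set (X ⧸ Subgroup.center X)).ncard := by
      rw [← Nat.card_coe_set_eq]
      rfl
    have h2 := Set.ncard_add_ncard_compl ({(1 : X ⧸ Subgroup.center X)} : Set _)
    rw [Set.ncard_singleton, ← Subgroup.index_eq_card] at h2
    rcases hW with h | h
    · left; rw [h1]; omega
    · right; rw [h1]; omega
  have hfix : ∀ s : {w : X ⧸ Subgroup.center X // w ≠ 1}, ∃ g : G, g • s ≠ s := by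
    rintro ⟨w, hw⟩
    induction w using QuotientGroup.induction_on with
    | H x =>
      by_contra hcon
      push Not at hcon
      apply hw
      apply (QuotientGroup.eq_one_iff x).2
      apply hfp
      intro a
      have h1 := congrArg Subtype.val (hcon a)
      rw [hsmul] at h1
      change x64_quotAct ρ (Subgroup.center X) hZinv a (QuotientGroup.mk x) = QuotientGroup.mk x
        at h1
      rw [x64_quotAct_mk] at h1
      exact QuotientGroup.eq.1 h1.symm
  -- all noncentral elements have the same square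
  have hconst : ∀ x : X, x ∉ Subgroup.center X → x * x = x0 * x0 := by
    intro x hx
    have hw0 : (QuotientGroup.mk x0 : X ⧸ Subgroup.center X) ≠ 1 := fun h =>
      hx0 ((QuotientGroup.eq_one_iff x0).1 h)
    have hw : (QuotientGroup.mk x : X ⧸ Subgroup.center X) ≠ 1 := fun h =>
      hx ((QuotientGroup.eq_one_iff x).1 h)
    obtain ⟨g, hg⟩ := x64_orbit hG hS hfix ⟨QuotientGroup.mk x0, hw0⟩ ⟨QuotientGroup.mk x, hw⟩
    have h1 := congrArg Subtype.val hg
    rw [hsmul] at h1
    change x64_quotAct ρ (Subgroup.center X) hZinv g (QuotientGroup.mk x0) = QuotientGroup.mk x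
      at h1
    rw [x64_quotAct_mk] at h1
    have h2 := x64_ss_sq_coset hZ2 (ρ g x0) x h1.symm
    rw [h2, ← map_mul]
    exact hfixsq x0 hx0 g
  have hsqcases : ∀ x : X, x * x = 1 ∨ x * x = x0 * x0 := by
    intro x
    by_cases hx : x ∈ Subgroup.center X
    · left; exact hZ2 x hx
    · right; exact hconst x hx
  -- the subgroup {1, z0}
  let N : Subgroup X :=
    { carrier := {n | n = 1 ∨ n = x0 * x0}
      one_mem' := Or.inl rfl
      mul_mem' := by
        rintro a b (rfl | rfl) (rfl | rfl)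
        · left; rw [mul_one]
        · right; rw [one_mul]
        · right; rw [mul_one]
        · left; exact hz0sq
      inv_mem' := by
        rintro a (rfl | rfl)
        · left; exact inv_one
        · right; exact inv_eq_of_mul_eq_one_left hz0sq }
  have hNmem : ∀ n : X, n ∈ N ↔ n = 1 ∨ n = x0 * x0 := fun _ => Iff.rfl
  have hNle : N ≤ Subgroup.center X := by
    intro n hn
    rcases (hNmem n).1 hn with rfl | rfl
    · exact Subgroup.one_mem _
    · exact hsq x0
  have hNn : N.Normal := by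
    constructor
    intro n hn g
    have h1 : g * n = n * g := Subgroup.mem_center_iff.1 (hNle hn) g
    rw [h1, mul_inv_cancel_right]
    exact hn
  have hsqN : ∀ x : X, x * x ∈ N := fun x => (hNmem _).2 (hsqcases x)
  have habN : ∀ x y : X, x * y * x⁻¹ * y⁻¹ ∈ N := by
    intro x y
    rw [x64_ss_comm_eq hsq]
    exact N.mul_mem (N.mul_mem (hsqN _) (N.inv_mem (hsqN _))) (N.inv_mem (hsqN _))
  have hNinv : ∀ a : G, ∀ n ∈ N, ρ a n ∈ N := by
    intro a n hn
    rcases (hNmem n).1 hn with rfl | rfl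
    · rw [map_one]; exact N.one_mem
    · rw [hfixsq x0 hx0 a]; exact hn
  have hZN : ∀ c ∈ Subgroup.center X, c ∈ N := by
    intro c hc
    apply x64_norm hX hG ρ hgen N hNinv habN c
    intro a
    by_cases hc1 : c = 1
    · rw [hc1, map_one, inv_one, one_mul]; exact N.one_mem
    by_cases hc0 : c = x0 * x0
    · rw [hc0, hfixsq x0 hx0 a, inv_mul_cancel]; exact N.one_mem
    have hcases := x64_four_cases (Subgroup.center X) hZ.le hZ2 (x0 * x0) c (hsq x0) hc hz01 hc1
      (fun h => hc0 h.symm)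
    have hinj := (ρ a).injective
    rcases hcases (ρ a c) (hZinv a c hc) with h | h | h | h
    · exfalso
      apply hc1
      apply hinj
      rw [h, map_one]
    · exfalso
      apply hc0
      apply hinj
      rw [h, hfixsq x0 hx0 a]
    · rw [h, inv_mul_cancel]; exact N.one_mem
    · rw [h]
      have h1 : c * (x0 * x0) = (x0 * x0) * c := (Subgroup.mem_center_iff.1 hc (x0 * x0)).symm
      rw [← h1, inv_mul_cancel_left]
      exact (hNmem _).2 (Or.inr rfl)
  -- count
  have hcard : Nat.card (Subgroup.center X) ≤ Nat.card N := by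
    apply Subgroup.card_le_of_le
    exact hZN
  have hN2 : Nat.card N ≤ 2 := by
    have h1 : (N : Set X) = {1, x0 * x0} := by
      ext n
      exact hNmem n
    rw [← SetLike.coe_sort_coe, Nat.card_coe_set_eq, h1]
    exact Set.ncard_insert_le _ _ |>.trans (by rw [Set.ncard_singleton])
  omega


/-- `S'(X)`, centre of order 4 containing every involution, of index 4 or 8: impossible. -/
theorem x64_spec_small {X : Type u} [Group X] [Finite X] (hX : IsPGroup 2 X)
    {G : Type v} [Group G] [Finite G] (hG : Odd (Nat.card G)) (ρ : G →* MulAut X)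
    (hgen : Subgroup.closure {g : X | ∃ a : G, ∃ x : X, g = x⁻¹ * ρ a x} = ⊤)
    (hsq : ∀ x : X, x * x ∈ Subgroup.center X)
    (hZ2 : ∀ z ∈ Subgroup.center X, z * z = 1)
    (hinv : ∀ x : X, x * x = 1 → x ∈ Subgroup.center X)
    (hZ : Nat.card (Subgroup.center X) = 4)
    (hW : (Subgroup.center X).index = 4 ∨ (Subgroup.center X).index = 8) : False := by
  by_cases hB : ∃ x0 : X, x0 ∉ Subgroup.center X ∧ ∃ a0 : G, ρ a0 (x0 * x0) ≠ x0 * x0
  · obtain ⟨x0, hx0, a0, hmove⟩ := hB
    rcases hW with h | h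
    · exact x64_ss_B4 hG ρ hsq hZ2 hinv hZ h x0 hx0 a0 hmove
    · exact x64_ss_B8 hG ρ hsq hZ2 hinv hZ h x0 hx0 a0 hmove
  · push Not at hB
    exact x64_ss_A hX hG ρ hgen hsq hZ2 hinv hZ hW hB


end Cfsg.Agent.X64
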