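import Mathlib
import Cfsg.Prelude.Def_Transfer
import Cfsg.Agent.Helper4.FrattiniQuotient
import Cfsg.Agent.Helper5.FrattiniLe
import Cfsg.Agent.X64.SpecSmall

/-!
# S1904, piece F, the final packaging: order 64, centre = derived subgroup of order 4 containing all
involutions: special with exactly three involutions.
-/

set_option autoImplicit false

namespace Cfsg.Agent.X64

universe u

theorem x64_spec_pack {X : Type u} [Group X] [Finite X] (hX : IsPGroup 2 X)
    (hsq : ∀ x : X, x * x ∈ Subgroup.center X)
    (hZ2 : ∀ z ∈ Subgroup.center X, z * z = 1)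
    (hinv : ∀ x : X, x * x = 1 → x ∈ Subgroup.center X)
    (hZ : Nat.card (Subgroup.center X) = 4)
    (hidx : (Subgroup.center X).index = 16)
    (hcomm : Subgroup.center X ≤ commutator X) :
    Cfsg.IsSpecial 2 X ∧ Nat.card X = 64 ∧ Nat.card {x : X // orderOf x = 2} = 3 ∧
      ∀ x : X, orderOf x = 2 → x ∈ Subgroup.center X := by
  have hcomm' : commutator X ≤ Subgroup.center X := by
    rw [commutator_def, Subgroup.commutator_le]
    intro g₁ _ g₂ _
    rw [commutatorElement_def]
    exact x64_ss_comm_mem hsq g₁ g₂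
  have hceq : commutator X = Subgroup.center X := le_antisymm hcomm' hcomm
  have hcf : commutator X ≤ frattini X := by
    rw [commutator_def, Subgroup.commutator_le]
    intro g₁ _ g₂ _
    rw [commutatorElement_def]
    exact Cfsg.Agent.Helper4.pgroup_commutator_mem_frattini hX g₁ g₂
  have hfeq : frattini X = Subgroup.center X := by
    apply le_antisymm
    · apply Cfsg.Agent.Helper5.frattini_le_of_forall (p := 2) (Subgroup.center X)
      · intro x
        rw [pow_two]
        exact hsq x
      · exact x64_ss_comm_mem hsq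
    · exact hcomm.trans hcf
  have hord : ∀ x : X, orderOf x = 2 ↔ x ∈ Subgroup.center X ∧ x ≠ 1 := by
    intro x
    rw [orderOf_eq_prime_iff, pow_two]
    constructor
    · rintro ⟨h1, h2⟩
      exact ⟨hinv x h1, h2⟩
    · rintro ⟨h1, h2⟩
      exact ⟨hZ2 x h1, h2⟩
  refine ⟨⟨hX, hfeq, hceq⟩, ?_, ?_, fun x hx => ((hord x).1 hx).1⟩
  · rw [← Subgroup.card_mul_index (Subgroup.center X), hZ, hidx]
  · have h1 : {x : X | orderOf x = 2} = (Subgroup.center X : Set X) \ {1} := by
      ext x
      rw [Set.mem_ofPred_eq, hord x, Set.mem_sdiff, Set.mem_singleton_iff]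
      rfl
    have h2 : Nat.card {x : X // orderOf x = 2} = {x : X | orderOf x = 2}.ncard := by
      rw [← Nat.card_coe_set_eq]
      rfl
    rw [h2, h1, Set.ncard_sdiff_singleton_of_mem (Subgroup.one_mem _)]
    have h3 : (Subgroup.center X : Set X).ncard = 4 := by
      rw [← Nat.card_coe_set_eq]
      exact hZ
    rw [h3]

end Cfsg.Agent.X64
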